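import Cfsg.Agent.Classification.OrderRange.Block

/-!
# Degrees of the principal block, without the bound on the group order

The same test as for orders below 6400, with a parameter bounding the degrees, and a search over
multisets of degrees.
-/

set_option autoImplicit false
set_option linter.style.haveILetI false
set_option linter.unusedSectionVars false
set_option maxHeartbeats 800000

namespace CfsgLib.MTwelveGraph

open Cfsg CfsgLib.Small CfsgLib.Classification.SmallOrders CfsgLib.Classification.OrderRange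
open CfsgLib.PrincipalBlock CfsgLib.Blocks

universe u

/-- Possible degrees below `M` of the non-exceptional members, with their sign. -/
def candsM (N p c M : ℕ) : List (ℕ × Bool) :=
  ((List.range M).filter fun n => decide (2 ≤ n) && decide (n * n ≤ N) && (N % n == 0) &&
    ((c == 1) || decide (2 * p ≤ n)) && ((n % p == 1) || (n % p == p - 1))).map
      fun n => (n, n % p == 1)

/-- All multisets of `j` further members from the list are impossible. -/
def killedL (N p e c : ℕ) (pred : ℕ → Bool) : List (ℕ × Bool) → ℕ → ℤ → ℕ → Bool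
  | [], j, s, bud => !(j == 0) || finalCheck N p e c pred (fun _ => false) false s bud
  | x :: cs, j, s, bud => (List.range (j + 1)).all fun m : ℕ => decide (bud < m * (x.1 * x.1)) ||
      killedL N p e c pred cs (j - m) (s + (m : ℤ) * sval x) (bud - m * (x.1 * x.1))

theorem killedL_spec {N p e c : ℕ} {pred : ℕ → Bool} :
    ∀ (cs L : List (ℕ × Bool)) (j : ℕ) (s : ℤ) (bud : ℕ), killedL N p e c pred cs j s bud = true →
      L.length = j → (∀ x ∈ L, x ∈ cs) →
      ∀ d : ℕ, (s + (L.map sval).sum).natAbs = d → 2 ≤ d → d ∣ N → (c ≠ 1 → 2 * p ≤ d) →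
      (0 < s + (L.map sval).sum → d % p = e % p) →
      (¬ 0 < s + (L.map sval).sum → (d + e) % p = 0) →
      (L.map fun x => x.1 * x.1).sum + (p - 1) / e * (d * d) ≤ bud → pred d = true
  | [], L, j, s, bud, h, hj, hmem, d, hd, h2, hdN, hdp, hpos, hneg, hsq => by
    obtain rfl : L = [] := List.eq_nil_iff_forall_not_mem.2 fun a ha => by simpa using hmem a ha
    subst hj
    simp only [List.map_nil, List.sum_nil, add_zero, zero_add] at hd hpos hneg hsq
    simp only [killedL, List.length_nil, beq_self_eq_true, Bool.not_true, Bool.false_or, finalCheck, hd,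
      Bool.or_eq_true, Bool.and_eq_true, decide_eq_true_eq, Bool.not_eq_true', beq_eq_false_iff_ne] at h
    rcases h with (((((h | h) | h) | h) | h) | h) | h
    · omega
    · exact absurd (Nat.mod_eq_zero_of_dvd hdN) h
    · have := hdp h.1
      omega
    · by_cases hs : 0 < s
      · simp only [hs, decide_true, cond_true, Bool.not_eq_true', beq_eq_false_iff_ne] at h
        exact absurd (hpos hs) h
      · simp only [hs, decide_false, cond_false, Bool.not_eq_true', beq_eq_false_iff_ne] at h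
        exact absurd (hneg hs) h
    · omega
    · exact h
    · exact absurd h.1 Bool.false_ne_true
  | x :: cs, L, j, s, bud, h, hj, hmem, d, hd, h2, hdN, hdp, hpos, hneg, hsq => by
    classical
    set L₁ := L.filter fun a => decide (a = x)
    set L₂ := L.filter fun a => !decide (a = x)
    have hperm : (L₁ ++ L₂).Perm L := List.filter_append_perm _ L
    have h₁ : L₁ = List.replicate L₁.length x := List.eq_replicate_iff.2
      ⟨rfl, fun a ha => by simpa [L₁] using (List.mem_filter.1 ha).2⟩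
    have hlen := hperm.length_eq
    rw [List.length_append, hj] at hlen
    have es := (hperm.map sval).sum_eq
    have eq := (hperm.map fun a => a.1 * a.1).sum_eq
    rw [List.map_append, List.sum_append, h₁, List.map_replicate, List.sum_replicate,
      nsmul_eq_mul] at es eq
    simp only [killedL, List.all_eq_true, Bool.or_eq_true, decide_eq_true_eq] at h
    simp only [Nat.cast_id] at eq
    rcases h L₁.length (List.mem_range.2 (by omega)) with h' | h'
    · omega
    · refine killedL_spec cs L₂ _ _ _ h' (by omega) (fun a ha => ?_) d (by rw [← hd, ← es, add_assoc])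
        h2 hdN hdp (by rwa [add_assoc, es]) (by rwa [add_assoc, es]) (by omega)
      exact (List.mem_cons.1 (hmem a (List.mem_filter.1 ha).1)).resolve_left
        (by simpa [L₂] using (List.mem_filter.1 ha).2)

variable {G : Type u} [Group G] [Fintype G] [IsSimpleGroup G] {p : ℕ} [Fact p.Prime]

theorem mod_eq_of_dvd_sub {p n r : ℕ} (h : (p : ℤ) ∣ (r : ℤ) - n) : n % p = r % p :=
  Nat.modEq_iff_dvd.2 h

/-- The list of degrees from the members of the block. -/
theorem degrees_of_data (hna : ¬ IsMulCommutative G) {N e c : ℕ} (hN : Nat.card G = N)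
    {M : ℕ} (hN80 : N < M * M) (hp3 : 3 ≤ p) (Xs Ys : Finset (IrrCharacter G)) (δ : IrrCharacter G → ℤ)
    (ε : ℤ) {θ : IrrCharacter G} (hθ : θ ∈ Ys) (hXs : Xs.card + 1 = e)
    (hYs : Ys.card = (p - 1) / e) (hdisj : Disjoint Xs Ys)
    (hne : ∀ ψ ∈ Xs ∪ Ys, ψ ≠ trivChar G)
    (hδ : ∀ χ ∈ Xs, (δ χ = 1 ∨ δ χ = -1) ∧
      (p : ℤ) ∣ δ χ - (Cfsg.charDegree (χ : G → ℂ) : ℤ))
    (hε : ε = 1 ∨ ε = -1)
    (hYeq : ∀ θ' ∈ Ys, Cfsg.charDegree (θ' : G → ℂ) = Cfsg.charDegree (θ : G → ℂ))
    (hmod : (p : ℤ) ∣ ε * e - (Cfsg.charDegree (θ : G → ℂ) : ℤ))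
    (hrel : ε * (Cfsg.charDegree (θ : G → ℂ) : ℤ) =
      1 + ∑ χ ∈ Xs, δ χ * (Cfsg.charDegree (χ : G → ℂ) : ℤ))
    (hbig : c ≠ 1 → ∀ ψ ∈ Xs ∪ Ys, 2 * p ≤ Cfsg.charDegree (ψ : G → ℂ)) :
    ∃ (L : List (ℕ × Bool)) (d : ℕ), L.length + 1 = e ∧ (∀ x ∈ L, x ∈ candsM N p c M) ∧
      (1 + (L.map sval).sum).natAbs = d ∧ 2 ≤ d ∧ d ∣ N ∧ (c ≠ 1 → 2 * p ≤ d) ∧
      (0 < 1 + (L.map sval).sum → d % p = e % p) ∧
      (¬ 0 < 1 + (L.map sval).sum → (d + e) % p = 0) ∧
      (L.map fun x => x.1 * x.1).sum + (p - 1) / e * (d * d) ≤ N - 1 ∧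
      (∀ x ∈ L, ∃ χ : IrrCharacter G, Cfsg.charDegree (χ : G → ℂ) = x.1) ∧
      Cfsg.charDegree (θ : G → ℂ) = d ∧
      ∀ χ ∈ Xs, ∃ x ∈ L, x.1 = Cfsg.charDegree (χ : G → ℂ) := by
  classical
  have h2deg : ∀ ψ ∈ Xs ∪ Ys, 2 ≤ Cfsg.charDegree (ψ : G → ℂ) := fun ψ hψ => by
    obtain ⟨n, hn0, -, hn, -⟩ := ClassPairs.exists_irr_degree ψ
    rcases Nat.lt_or_ge n 2 with h | h
    · exact absurd (SylowPrimeOrder.eq_trivChar_of_degree_one hna (by rw [hn]; omega)) (hne ψ hψ)
    · omega
  have hdvd : ∀ ψ : IrrCharacter G, Cfsg.charDegree (ψ : G → ℂ) ∣ N := fun ψ =>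
    hN ▸ Blocks.charDegree_dvd_card ψ
  set d := Cfsg.charDegree (θ : G → ℂ) with hd
  have hsq : 1 + ∑ χ ∈ Xs, Cfsg.charDegree (χ : G → ℂ) ^ 2 + (p - 1) / e * (d * d) ≤ N := by
    rw [← hN, ← LargePrime.sum_charDegree_sq]
    have h1 : ∑ χ ∈ Ys, Cfsg.charDegree (χ : G → ℂ) ^ 2 = (p - 1) / e * (d * d) := by
      rw [Finset.sum_congr rfl fun χ hχ => by rw [hYeq χ hχ, sq], Finset.sum_const, hYs, smul_eq_mul]
    rw [← h1, add_assoc, ← Finset.sum_union hdisj]
    refine le_trans (le_of_eq ?_) (Finset.sum_le_sum_of_subset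
      (Finset.subset_univ (insert (trivChar G) (Xs ∪ Ys))))
    rw [Finset.sum_insert fun h => hne _ h rfl, LargePrime.charDegree_trivChar]
    norm_num
  set f : IrrCharacter G → ℕ × Bool := fun χ =>
    (Cfsg.charDegree (χ : G → ℂ), Cfsg.charDegree (χ : G → ℂ) % p == 1) with hf
  have hsval : ∀ χ ∈ Xs, sval (f χ) = δ χ * (Cfsg.charDegree (χ : G → ℂ) : ℤ) := fun χ hχ => by
    obtain ⟨hs, hm⟩ := hδ χ hχ
    rcases hs with h | h <;> rw [h] at hm ⊢
    · have h1 := mod_eq_of_dvd_sub (p := p) (r := 1) (by exact_mod_cast hm)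
      rw [Nat.one_mod_eq_one.2 (by omega)] at h1
      simp [sval, hf, h1]
    · have h1 := mod_eq_of_dvd_sub (p := p) (r := p - 1) (n := Cfsg.charDegree (χ : G → ℂ)) (by
        rw [Nat.cast_sub (by omega : 1 ≤ p), Nat.cast_one,
          show (p : ℤ) - 1 - (Cfsg.charDegree (χ : G → ℂ) : ℤ) =
            (p : ℤ) + (-1 - (Cfsg.charDegree (χ : G → ℂ) : ℤ)) by ring]
        exact dvd_add dvd_rfl hm)
      rw [Nat.mod_eq_of_lt (by omega : p - 1 < p)] at h1
      have h2 : Cfsg.charDegree (χ : G → ℂ) % p ≠ 1 := by omega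
      have h3 : (Cfsg.charDegree (χ : G → ℂ) % p == 1) = false := beq_eq_false_iff_ne.2 h2
      simp [sval, hf, h3]
  have hsum : ((Xs.toList.map f).map sval).sum =
      ∑ χ ∈ Xs, δ χ * (Cfsg.charDegree (χ : G → ℂ) : ℤ) := by
    rw [List.map_map, Finset.sum_map_toList]
    exact Finset.sum_congr rfl fun χ hχ => hsval χ hχ
  refine ⟨Xs.toList.map f, d, by simp [hXs], fun x hx => ?_, ?_, h2deg θ (Finset.mem_union_right _ hθ),
    hdvd θ, fun hc => hbig hc θ (Finset.mem_union_right _ hθ), ?_, ?_, ?_, fun x hx => ?_, rfl,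
    fun χ hχ => ⟨f χ, List.mem_map.2 ⟨χ, Finset.mem_toList.2 hχ, rfl⟩, rfl⟩⟩
  · obtain ⟨χ, hχ, rfl⟩ := List.mem_map.1 hx
    rw [Finset.mem_toList] at hχ
    refine List.mem_map.2 ⟨Cfsg.charDegree (χ : G → ℂ), ?_, rfl⟩
    have h1 : Cfsg.charDegree (χ : G → ℂ) ^ 2 ≤ N := by
      have := Finset.single_le_sum (f := fun ψ : IrrCharacter G => Cfsg.charDegree (ψ : G → ℂ) ^ 2)
        (fun _ _ => Nat.zero_le _) hχ
      omega
    simp only [List.mem_filter, List.mem_range, Bool.and_eq_true, Bool.or_eq_true,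
      decide_eq_true_eq, beq_iff_eq]
    refine ⟨by nlinarith, ⟨⟨⟨h2deg χ (Finset.mem_union_left _ hχ), by rwa [← sq]⟩,
      Nat.mod_eq_zero_of_dvd (hdvd χ)⟩, ?_⟩, ?_⟩
    · rcases eq_or_ne c 1 with h | h
      exacts [Or.inl h, Or.inr (hbig h χ (Finset.mem_union_left _ hχ))]
    · obtain ⟨hs, hm⟩ := hδ χ hχ
      rcases hs with h | h <;> rw [h] at hm
      · left
        rw [mod_eq_of_dvd_sub (p := p) (r := 1) (by exact_mod_cast hm), Nat.one_mod_eq_one.2 (by omega)]
      · right
        rw [mod_eq_of_dvd_sub (p := p) (r := p - 1) (n := Cfsg.charDegree (χ : G → ℂ)) (by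
          rw [Nat.cast_sub (by omega : 1 ≤ p), Nat.cast_one,
            show (p : ℤ) - 1 - (Cfsg.charDegree (χ : G → ℂ) : ℤ) =
              (p : ℤ) + (-1 - (Cfsg.charDegree (χ : G → ℂ) : ℤ)) by ring]
          exact dvd_add dvd_rfl hm), Nat.mod_eq_of_lt (by omega : p - 1 < p)]
  · rw [hsum, ← hrel]
    rcases hε with h | h <;> rw [h] <;> simp
  · rw [hsum, ← hrel]
    intro hpos
    rcases hε with h | h
    · rw [h, one_mul] at hmod
      exact mod_eq_of_dvd_sub hmod
    · rw [h] at hpos; omega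
  · rw [hsum, ← hrel]
    intro hpos
    rcases hε with h | h
    · exfalso
      rw [h, one_mul] at hpos
      have := h2deg θ (Finset.mem_union_right _ hθ)
      omega
    · rw [h] at hmod
      refine Nat.mod_eq_zero_of_dvd (Int.natCast_dvd_natCast.1 ?_)
      have h1 := dvd_neg.2 hmod
      push_cast
      rwa [show -(-1 * (e : ℤ) - (d : ℤ)) = (d : ℤ) + e by ring] at h1
  · rw [List.map_map, Finset.sum_map_toList]
    have h1 : Xs.sum ((fun x : ℕ × Bool => x.1 * x.1) ∘ f) =
        ∑ χ ∈ Xs, Cfsg.charDegree (χ : G → ℂ) ^ 2 :=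
      Finset.sum_congr rfl fun χ _ => (sq _).symm
    omega
  · obtain ⟨χ, -, rfl⟩ := List.mem_map.1 hx
    exact ⟨χ, rfl⟩

/-- The degrees in the principal block of a simple group for a Sylow subgroup of order `p`. -/
theorem block_degrees (hna : ¬ IsMulCommutative G) (hp3 : 3 ≤ p) (P : Sylow p G)
    (hP : Nat.card (P : Subgroup G) = p) {N e c : ℕ} (hN : Nat.card G = N) {M : ℕ} (hN80 : N < M * M)
    (he : (Subgroup.centralizer ((P : Subgroup G) : Set G)).relIndex
      (Subgroup.normalizer ((P : Subgroup G) : Set G)) = e) (he2 : 2 ≤ e) (hep : e ≤ p - 1)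
    (hc : Nat.card (Subgroup.centralizer ((P : Subgroup G) : Set G)) = p * c) :
    ∃ (L : List (ℕ × Bool)) (d : ℕ), L.length + 1 = e ∧ (∀ x ∈ L, x ∈ candsM N p c M) ∧
      (1 + (L.map sval).sum).natAbs = d ∧ 2 ≤ d ∧ d ∣ N ∧ (c ≠ 1 → 2 * p ≤ d) ∧
      (0 < 1 + (L.map sval).sum → d % p = e % p) ∧
      (¬ 0 < 1 + (L.map sval).sum → (d + e) % p = 0) ∧
      (L.map fun x => x.1 * x.1).sum + (p - 1) / e * (d * d) ≤ N - 1 ∧
      (∀ x ∈ L, ∃ χ : IrrCharacter G, Cfsg.charDegree (χ : G → ℂ) = x.1) ∧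
      (∃ χ : IrrCharacter G, Cfsg.charDegree (χ : G → ℂ) = d) ∧
      (c = 1 → ∀ χ : IrrCharacter G, Cfsg.charDegree (χ : G → ℂ) = 1 ∨
        p ∣ Cfsg.charDegree (χ : G → ℂ) ∨ Cfsg.charDegree (χ : G → ℂ) = d ∨
        ∃ x ∈ L, x.1 = Cfsg.charDegree (χ : G → ℂ)) := by
  classical
  have hp := (Fact.out : p.Prime)
  have hperf := Classification.SmallOrders.commutator_eq_top hna
  have hPC : (P : Subgroup G) ≤ Subgroup.centralizer ((P : Subgroup G) : Set G) := by
    haveI := isCyclic_of_prime_card hP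
    exact Subgroup.le_centralizer (P : Subgroup G)
  by_cases hc1 : c = 1
  · have S : LargePrime.Core P := ⟨hperf, hP,
      (Subgroup.eq_of_le_of_card_ge hPC (by rw [hP, hc, hc1, mul_one])).symm⟩
    obtain ⟨D⟩ := S.exists_blockData
    have heI : LargePrime.eIdx P = e := by rw [← he, LargePrime.eIdx, S.self]
    obtain ⟨θ, hθ⟩ : ∃ θ, θ ∈ D.Y := Finset.card_pos.1 (by rw [D.cardY]; exact S.kIdx_pos)
    obtain ⟨L, d, h1, h2, h3, h4, h5, h6, h7, h8, h9, h10, h11, h12⟩ :=
      degrees_of_data (p := p) (e := e) (c := c) hna hN hN80 hp3 (D.X.erase (trivChar G)) D.Y D.δ D.ε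
        hθ (by rw [Finset.card_erase_add_one D.triv_mem, D.cardX, heI])
        (by rw [D.cardY, LargePrime.kIdx, heI])
        (D.disj.mono_left (Finset.erase_subset _ _))
        (fun ψ hψ => by
          rcases Finset.mem_union.1 hψ with h | h
          · exact Finset.ne_of_mem_erase h
          · exact fun h' => Finset.disjoint_left.1 D.disj D.triv_mem (h' ▸ h))
        (fun χ hχ => ⟨D.δ_sign χ (Finset.mem_of_mem_erase hχ),
          ⟨D.δ χ - LargePrime.qdim P χ, by rw [D.degX χ (Finset.mem_of_mem_erase hχ)]; ring⟩⟩)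
        D.ε_sign
        (fun θ' hθ' => Nat.cast_injective (R := ℂ) (by
          rw [charDegree_cast, charDegree_cast, D.apply_Y S hθ hθ']))
        (⟨-(LargePrime.qdim P θ : ℤ), by rw [D.degY θ hθ, heI]; ring⟩)
        (by
          rw [D.rel_one S hθ, ← Finset.add_sum_erase _ _ D.triv_mem, D.δ_triv,
            LargePrime.charDegree_trivChar, Nat.cast_one, mul_one])
        (fun h => absurd hc1 h)
    refine ⟨L, d, h1, h2, h3, h4, h5, h6, h7, h8, h9, h10, ⟨θ, h11⟩, fun _ χ => ?_⟩
    by_cases hX : χ ∈ D.X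
    · by_cases ht : χ = trivChar G
      · exact Or.inl (ht ▸ LargePrime.charDegree_trivChar)
      · exact Or.inr (Or.inr (Or.inr (h12 χ (Finset.mem_erase.2 ⟨ht, hX⟩))))
    · by_cases hY : χ ∈ D.Y
      · refine Or.inr (Or.inr (Or.inl ?_))
        rw [← h11]
        exact Nat.cast_injective (R := ℂ) (by rw [charDegree_cast, charDegree_cast, D.apply_Y S hθ hY])
      · exact Or.inr (Or.inl ⟨_, D.deg_out' S (D.mem_out.2 ⟨hX, hY⟩)⟩)
  · obtain ⟨M₀, hM⟩ := exists_isPModular p hp
    haveI : M₀.IsPrime := hM.2.1.isPrime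
    obtain ⟨X, Y, hB, hXY, hX, hY, εX, ε, hXs, hε, hYd, hYeq, hid⟩ :=
      Cfsg.Agent.S4441.result p M₀ hM (by omega) P hP e he
    have hbig : ∀ ψ : IrrCharacter G, ψ ∈ X ∪ Y → ψ ≠ trivChar G →
        2 * p ≤ Cfsg.charDegree (ψ : G → ℂ) := fun ψ hψ hne => by
      by_contra hlt
      have hfaith : ∀ g : G, (ψ : G → ℂ) g = (ψ : G → ℂ) 1 → g = 1 := fun g hg => by
        have hnormal : (charKer ψ).Normal := ⟨fun a ha x => mem_charKer.2 (by
          rw [Characters.isClassFunction_of_isIrr ψ.2 a x]; exact mem_charKer.1 ha)⟩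
        rcases hnormal.eq_bot_or_eq_top with h | h
        · exact Subgroup.mem_bot.1 (h ▸ mem_charKer.2 hg)
        · exact absurd (eq_trivChar_of_charKer_eq_top h) hne
      have h1 := Cfsg.Agent.S4729.result p M₀ hM hperf P ψ (hB ▸ hψ) hfaith (by omega)
      have h2 := P.3 h1 hPC
      rw [h2, hP] at hc
      exact hc1 ((mul_eq_left₀ hp.ne_zero).1 hc.symm)
    have hd1 : Cfsg.charDegree ((trivChar G : IrrCharacter G) : G → ℂ) = 1 :=
      LargePrime.charDegree_trivChar
    have hk : 0 < (p - 1) / e := Nat.div_pos hep (by omega)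
    have hrel : ∀ θ ∈ Y, ε * (Cfsg.charDegree (θ : G → ℂ) : ℤ) =
        ∑ χ ∈ X.toFinset, εX χ * (Cfsg.charDegree (χ : G → ℂ) : ℤ) := fun θ hθ => by
      have h1 := hid θ hθ 1 (by rw [orderOf_one]; exact hp.not_dvd_one)
      rw [finsum_mem_eq_toFinset_sum] at h1
      apply Int.cast_injective (α := ℂ)
      push_cast
      simp only [charDegree_cast]
      exact h1
    have hXc : X.toFinset.card = e := by
      rw [← Set.ncard_eq_toFinset_card', ← Nat.card_coe_set_eq, hX]
    have hYc : Y.toFinset.card = (p - 1) / e := by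
      rw [← Set.ncard_eq_toFinset_card', ← Nat.card_coe_set_eq, hY]
    by_cases htX : trivChar G ∈ X
    · obtain ⟨θ, hθ⟩ := Finset.card_pos.1 (hYc ▸ hk)
      have hδt : εX (trivChar G) = 1 := by
        obtain ⟨hs, hm, -⟩ := hXs _ htX
        rcases hs with h | h
        · exact h
        · exfalso
          rw [h, hd1] at hm
          obtain ⟨a, ha⟩ := Int.modEq_iff_dvd.1 hm
          have h2 : (p : ℤ) ∣ ((2 : ℕ) : ℤ) := ⟨-a, by push_cast at ha ⊢; linarith⟩
          have := Nat.le_of_dvd two_pos (Int.natCast_dvd_natCast.1 h2)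
          omega
      obtain ⟨L, d, h1, h2, h3, h4, h5, h6, h7, h8, h9, h10, h11, -⟩ :=
        degrees_of_data (p := p) (e := e) (c := c) hna hN hN80 hp3
          (X.toFinset.erase (trivChar G)) Y.toFinset εX ε hθ
          (by rw [Finset.card_erase_add_one (Set.mem_toFinset.2 htX), hXc]) hYc
          (Finset.disjoint_left.2 fun χ h h' => Set.disjoint_left.1 hXY
            (Set.mem_toFinset.1 (Finset.mem_of_mem_erase h)) (Set.mem_toFinset.1 h'))
          (fun ψ hψ => by
            rcases Finset.mem_union.1 hψ with h | h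
            · exact Finset.ne_of_mem_erase h
            · exact fun h' => Set.disjoint_left.1 hXY htX (h' ▸ Set.mem_toFinset.1 h))
          (fun χ hχ => ⟨(hXs χ (Set.mem_toFinset.1 (Finset.mem_of_mem_erase hχ))).1,
            Int.modEq_iff_dvd.1 (hXs χ (Set.mem_toFinset.1 (Finset.mem_of_mem_erase hχ))).2.1⟩)
          hε
          (fun θ' hθ' => Nat.cast_injective (R := ℂ) (by
            rw [charDegree_cast, charDegree_cast]
            exact hYeq θ' (Set.mem_toFinset.1 hθ') θ (Set.mem_toFinset.1 hθ) 1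
              (by rw [orderOf_one]; exact hp.not_dvd_one)))
          (Int.modEq_iff_dvd.1 (hYd θ (Set.mem_toFinset.1 hθ)))
          (by
            rw [hrel θ (Set.mem_toFinset.1 hθ), ← Finset.add_sum_erase _ _ (Set.mem_toFinset.2 htX),
              hδt, hd1, Nat.cast_one, mul_one])
          (fun _ ψ hψ => by
            rcases Finset.mem_union.1 hψ with h | h
            · exact hbig ψ (Or.inl (Set.mem_toFinset.1 (Finset.mem_of_mem_erase h)))
                (Finset.ne_of_mem_erase h)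
            · exact hbig ψ (Or.inr (Set.mem_toFinset.1 h)) fun h' =>
                Set.disjoint_left.1 hXY htX (h' ▸ Set.mem_toFinset.1 h))
      exact ⟨L, d, h1, h2, h3, h4, h5, h6, h7, h8, h9, h10, ⟨θ, h11⟩, fun h => absurd h hc1⟩
    · have htY : trivChar G ∈ Y := by
        have : trivChar G ∈ X ∪ Y := hB ▸ trivChar_mem
        exact this.resolve_left htX
      have hm := Int.modEq_iff_dvd.1 (hYd _ htY)
      rw [hd1] at hm
      have hεe : ε = -1 ∧ e = p - 1 := by
        rcases hε with h | h <;> rw [h] at hm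
        · exfalso
          have h1 : (p : ℤ) ∣ ((e - 1 : ℕ) : ℤ) := by
            rw [Nat.cast_sub (by omega : 1 ≤ e)]; simpa using hm
          have := Nat.le_of_dvd (by omega) (Int.natCast_dvd_natCast.1 h1)
          omega
        · refine ⟨h, ?_⟩
          have h1 : (p : ℤ) ∣ ((e + 1 : ℕ) : ℤ) := by
            have := dvd_neg.2 hm
            rwa [show -(-1 * (e : ℤ) - ((1 : ℕ) : ℤ)) = ((e + 1 : ℕ) : ℤ) by push_cast; ring] at this
          have := Nat.le_of_dvd (by omega) (Int.natCast_dvd_natCast.1 h1)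
          omega
      obtain ⟨χ₀, hχ₀⟩ := Finset.card_pos.1 (show 0 < X.toFinset.card by omega)
      have hne : ∀ χ ∈ X.toFinset, χ ≠ trivChar G := fun χ h h' =>
        htX (h' ▸ Set.mem_toFinset.1 h)
      obtain ⟨hs₀, hm₀, -⟩ := hXs χ₀ (Set.mem_toFinset.1 hχ₀)
      have hrel₀ := hrel _ htY
      rw [hd1, hεe.1, ← Finset.add_sum_erase _ _ hχ₀, Nat.cast_one, mul_one] at hrel₀
      obtain ⟨L, d, h1, h2, h3, h4, h5, h6, h7, h8, h9, h10, h11, -⟩ :=
        degrees_of_data (p := p) (e := e) (c := c) hna hN hN80 hp3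
          (X.toFinset.erase χ₀) {χ₀} εX (-εX χ₀) (Finset.mem_singleton_self χ₀)
          (by rw [Finset.card_erase_add_one hχ₀, hXc])
          (by rw [Finset.card_singleton, hεe.2, Nat.div_self (by omega)])
          (Finset.disjoint_singleton_right.2 (Finset.notMem_erase _ _))
          (fun ψ hψ => by
            rcases Finset.mem_union.1 hψ with h | h
            · exact hne ψ (Finset.mem_of_mem_erase h)
            · exact Finset.mem_singleton.1 h ▸ hne χ₀ hχ₀)
          (fun χ hχ => ⟨(hXs χ (Set.mem_toFinset.1 (Finset.mem_of_mem_erase hχ))).1,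
            Int.modEq_iff_dvd.1 (hXs χ (Set.mem_toFinset.1 (Finset.mem_of_mem_erase hχ))).2.1⟩)
          (by rcases hs₀ with h | h <;> rw [h] <;> norm_num)
          (fun θ' h => by rw [Finset.mem_singleton.1 h])
          (by
            rw [hεe.2, Nat.cast_sub (by omega : 1 ≤ p), Nat.cast_one,
              show -εX χ₀ * ((p : ℤ) - 1) - (Cfsg.charDegree (χ₀ : G → ℂ) : ℤ) =
                (p : ℤ) * -εX χ₀ + (εX χ₀ - (Cfsg.charDegree (χ₀ : G → ℂ) : ℤ)) by ring]
            exact dvd_add (dvd_mul_right _ _) (Int.modEq_iff_dvd.1 hm₀))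
          (by linarith)
          (fun _ ψ hψ => by
            rcases Finset.mem_union.1 hψ with h | h
            · exact hbig ψ (Or.inl (Set.mem_toFinset.1 (Finset.mem_of_mem_erase h)))
                (hne ψ (Finset.mem_of_mem_erase h))
            · rw [Finset.mem_singleton.1 h]
              exact hbig χ₀ (Or.inl (Set.mem_toFinset.1 hχ₀)) (hne χ₀ hχ₀))
      exact ⟨L, d, h1, h2, h3, h4, h5, h6, h7, h8, h9, h10, ⟨χ₀, h11⟩, fun h => absurd h hc1⟩

end CfsgLib.MTwelveGraph
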