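import Cfsg.Agent.DegreeGraph.Basic
import Cfsg.Agent.Characters.Orthogonality

/-!
# Characters and the centre

The square of a degree is at most the index of the centre, and restriction to a subgroup which
together with the centre is the whole group stays irreducible.
-/

set_option autoImplicit false

namespace CfsgLib.MTwelveGraph

open Cfsg CfsgLib.Characters
open scoped ComplexConjugate

universe u

variable {G : Type u} [Group G] [Finite G] {χ : G → ℂ}

/-- A central factor does not change the absolute value. -/
theorem normSq_mul_central (hχ : Cfsg.IsIrrCharacter G χ) (g : G) {z : G}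
    (hz : z ∈ Subgroup.center G) : Complex.normSq (χ (g * z)) = Complex.normSq (χ g) := by
  obtain ⟨n, ρ, hρ, rfl⟩ := hχ
  obtain ⟨c, hc⟩ := central_scalar ρ hz
  have hpow : ∀ k : ℕ, ρ (z ^ k) = c ^ k • LinearMap.id := by
    intro k
    induction k with
    | zero => simp [Module.End.one_eq_id]
    | succ k ih =>
      rw [pow_succ, map_mul, ih, hc, pow_succ]
      apply LinearMap.ext
      intro x
      simp [smul_smul, mul_comm]
  haveI := CfsgLib.Characters.nontrivial_of_isIrreducible ρ
  obtain ⟨x, hx⟩ := exists_ne (0 : Fin n → ℂ)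
  have hc1 : c ^ orderOf z = 1 := by
    have h1 := LinearMap.congr_fun (hpow (orderOf z)) x
    rw [pow_orderOf_eq_one, map_one, Module.End.one_apply, LinearMap.smul_apply, LinearMap.id_apply] at h1
    have h2 : (c ^ orderOf z - 1) • x = 0 := by rw [sub_smul, one_smul, ← h1, sub_self]
    exact sub_eq_zero.1 ((smul_eq_zero.1 h2).resolve_right hx)
  have hn : Complex.normSq c = 1 := by
    have h1 := congrArg Complex.normSq hc1
    rw [map_pow, map_one] at h1
    exact (pow_eq_one_iff_of_nonneg (Complex.normSq_nonneg c) (orderOf_pos z).ne').1 h1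
  have h : ρ.character (g * z) = c * ρ.character g := by
    simp only [Representation.character, map_mul, hc]
    rw [show ρ g * (c • LinearMap.id) = c • ρ g from by ext; simp, map_smul, smul_eq_mul]
  rw [h, map_mul, hn, one_mul]

theorem sum_normSq [Fintype G] (hχ : Cfsg.IsIrrCharacter G χ) :
    ∑ g : G, Complex.normSq (χ g) = (Nat.card G : ℝ) := by
  have h := classInner_isIrr_self hχ
  rw [Cfsg.classInner] at h
  have hne : (Nat.card G : ℂ) ≠ 0 := natCard_ne_zero
  rw [inv_mul_eq_one₀ hne] at h
  apply Complex.ofReal_injective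
  push_cast
  rw [h]
  exact Finset.sum_congr rfl fun g _ => Complex.normSq_eq_conj_mul_self.trans (mul_comm _ _)

/-- The square of a degree is at most the index of the centre. -/
theorem sq_le_center_index (hχ : Cfsg.IsIrrCharacter G χ) {d : ℕ} (hd : χ 1 = d) :
    d ^ 2 * Nat.card (Subgroup.center G) ≤ Nat.card G := by
  classical
  haveI := Fintype.ofFinite G
  have h1 : ∑ g ∈ Finset.univ.filter (fun g => g ∈ Subgroup.center G), Complex.normSq (χ g) ≤
      ∑ g : G, Complex.normSq (χ g) :=
    Finset.sum_le_sum_of_subset_of_nonneg (Finset.filter_subset _ _) fun g _ _ => Complex.normSq_nonneg _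
  rw [sum_normSq hχ, Finset.sum_congr rfl (g := fun _ => ((d : ℝ) ^ 2)) fun z hz => by
    rw [← one_mul z, normSq_mul_central hχ 1 (Finset.mem_filter.1 hz).2, hd, Complex.normSq_natCast,
      pow_two], Finset.sum_const, nsmul_eq_mul] at h1
  have hcard : (Finset.univ.filter fun g => g ∈ Subgroup.center G).card = Nat.card (Subgroup.center G) := by
    rw [Nat.card_eq_fintype_card, Fintype.card_subtype]
  rw [hcard, mul_comm] at h1
  exact_mod_cast h1

/-- Restriction to a subgroup supplemented by a central subgroup meeting it trivially is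
irreducible. -/
theorem restrict_irr_of_central (hχ : Cfsg.IsIrrCharacter G χ) {E Z : Subgroup G}
    (hZ : Z ≤ Subgroup.center G) (hEZ : E.IsComplement' Z) :
    Cfsg.IsIrrCharacter E fun e : E => χ e := by
  classical
  haveI := Fintype.ofFinite G
  refine isIrr_of_classInner_self (isCharacter_restrict E (isCharacter_of_isIrr hχ)) ?_
  have hsum : ∑ g : G, Complex.normSq (χ g) =
      (Nat.card Z : ℝ) * ∑ e : E, Complex.normSq (χ e) := by
    rw [← Fintype.sum_equiv (Equiv.ofBijective (fun x : E × Z => (x.1 : G) * x.2) hEZ)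
      (fun x => Complex.normSq (χ ((x.1 : G) * x.2))) (fun g => Complex.normSq (χ g)) fun _ => rfl,
      Fintype.sum_prod_type, Finset.mul_sum]
    refine Finset.sum_congr rfl fun e _ => ?_
    rw [Finset.sum_congr rfl fun (z : Z) _ => normSq_mul_central hχ (e : G) (hZ z.2),
      Finset.sum_const, Finset.card_univ, Nat.card_eq_fintype_card, nsmul_eq_mul]
  rw [sum_normSq hχ] at hsum
  have hc := hEZ.card_mul
  rw [← hc, Nat.cast_mul, mul_comm (Nat.card Z : ℝ)] at hsum
  have hpos : (Nat.card Z : ℝ) ≠ 0 := Nat.cast_ne_zero.2 Nat.card_pos.ne'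
  have hE : (Nat.card E : ℝ) = ∑ e : E, Complex.normSq (χ e) := mul_right_cancel₀ hpos hsum
  have hE' : (Nat.card E : ℂ) = ∑ e : E, χ e * conj (χ e) := by
    rw [Finset.sum_congr rfl fun e _ => (Complex.normSq_eq_conj_mul_self.trans (mul_comm _ _)).symm]
    exact_mod_cast hE
  rw [Cfsg.classInner, inv_mul_eq_one₀ natCard_ne_zero, hE']

end CfsgLib.MTwelveGraph
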