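import Cfsg.Agent.Perm.PermChar
import Cfsg.Agent.Characters.Classes

/-!
# Decomposing a permutation character by idempotents

If commuting idempotents split the permutation module into as many non-zero parts as there are
orbits on pairs of points, each part affords an irreducible character.
-/

set_option autoImplicit false
set_option linter.unusedSectionVars false

namespace CfsgLib.MTwelveGraph

open CfsgLib.Characters
open scoped ComplexConjugate

universe u v

variable {G : Type u} [Group G]

section Idempotent

variable {V : Type v} [AddCommGroup V] [Module ℂ V] [FiniteDimensional ℂ V]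

/-- The trace of a representation on the range of an equivariant idempotent. -/
theorem isCharacter_trace_idempotent (ρ : Representation ℂ G V) (T : Module.End ℂ V)
    (hT : IsIdempotentElem T) (hcomm : ∀ g, Commute (ρ g) T) :
    Cfsg.IsCharacter G fun g => LinearMap.trace ℂ V (ρ g * T) := by
  let W : Subrepresentation ρ := ⟨LinearMap.range T, fun g x hx => by
    obtain ⟨y, rfl⟩ := hx
    exact ⟨ρ g y, (LinearMap.congr_fun (hcomm g).eq y).symm⟩⟩
  convert isCharacter_character W.toRepresentation using 1
  funext g
  rw [Representation.character]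
  let A : V →ₗ[ℂ] W.toSubmodule := T.rangeRestrict
  let B : W.toSubmodule →ₗ[ℂ] V := (ρ g).comp W.toSubmodule.subtype
  have h1 : ρ g * T = B.comp A := LinearMap.ext fun x => rfl
  have h2 : W.toRepresentation g = A.comp B := LinearMap.ext fun x => Subtype.ext (by
    obtain ⟨x, y, rfl⟩ := x
    show ρ g (T y) = T (ρ g (T y))
    have e1 := LinearMap.congr_fun (hcomm g).eq (T y)
    have e2 := LinearMap.congr_fun hT.eq y
    simp only [Module.End.mul_apply] at e1 e2
    rw [← e1, e2])
  rw [h1, h2]
  exact LinearMap.trace_comp_comm' A B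

end Idempotent

variable [Fintype G] {Ω : Type v} [Fintype Ω] [MulAction G Ω]

theorem isIrr_of_idempotents {ι : Type*} [Fintype ι] (T : ι → Module.End ℂ (Ω → ℂ))
    (hT : ∀ i, IsIdempotentElem (T i)) (hcomm : ∀ i g, Commute (Cfsg.permRep ℂ G Ω g) (T i))
    (hsum : ∑ i, T i = 1) (hne : ∀ i, LinearMap.trace ℂ (Ω → ℂ) (T i) ≠ 0)
    (horb : Nat.card (MulAction.orbitRel.Quotient G (Ω × Ω)) ≤ Fintype.card ι) (i : ι) :
    Cfsg.IsIrrCharacter G fun g => LinearMap.trace ℂ (Ω → ℂ) (Cfsg.permRep ℂ G Ω g * T i) := by
  classical
  set χ : ι → G → ℂ := fun i g => LinearMap.trace ℂ (Ω → ℂ) (Cfsg.permRep ℂ G Ω g * T i) with hχdef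
  have hχ : ∀ i, Cfsg.IsCharacter G (χ i) := fun i =>
    isCharacter_trace_idempotent _ _ (hT i) (hcomm i)
  have hperm : CfsgLib.Perm.PermChar.perm G Ω = ∑ i, χ i := by
    rw [← CfsgLib.Perm.PermChar.character_permRep]
    funext g
    rw [Finset.sum_apply]
    simp only [hχdef, Representation.character]
    rw [← map_sum, ← Finset.mul_sum, hsum, mul_one]
  choose m hm using fun i j => classInner_characters (hχ i) (hχ j)
  have hpos : ∀ i, 1 ≤ m i i := by
    intro i
    by_contra h
    have h0 : (Nat.card G : ℂ)⁻¹ * ∑ g : G, χ i g * conj (χ i g) = 0 := by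
      have := hm i i
      rw [show m i i = 0 by omega] at this
      exact_mod_cast this
    have hsum0 : (∑ g : G, Complex.normSq (χ i g)) = 0 := by
      have h1 := (mul_eq_zero.1 h0).resolve_left (inv_ne_zero (natCard_ne_zero (G := G)))
      simp only [Complex.mul_conj] at h1
      rw [← Complex.ofReal_sum] at h1
      exact_mod_cast h1
    have h2 := (Finset.sum_eq_zero_iff_of_nonneg fun g _ => Complex.normSq_nonneg (χ i g)).1 hsum0 1
      (Finset.mem_univ _)
    rw [Complex.normSq_eq_zero] at h2
    refine hne i ?_
    simpa [hχdef] using h2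
  have htot : ∑ i, ∑ j, m i j ≤ Fintype.card ι := by
    have h := CfsgLib.Perm.PermChar.norm_perm (G := G) (Ω := Ω)
    rw [hperm, classInner_sum_left] at h
    simp only [classInner_sum_right, hm] at h
    have h' : ∑ i, ∑ j, m i j = Nat.card (MulAction.orbitRel.Quotient G (Ω × Ω)) := by
      exact_mod_cast h
    omega
  have hdiag : m i i = 1 := by
    have hle : ∀ j, 1 ≤ ∑ k, m j k := fun j =>
      (hpos j).trans (Finset.single_le_sum (fun k _ => Nat.zero_le _) (Finset.mem_univ j))
    have he : ∑ _j : ι, 1 = ∑ j, ∑ k, m j k := by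
      refine le_antisymm (Finset.sum_le_sum fun j _ => hle j) ?_
      rw [Finset.sum_const, smul_eq_mul, mul_one, Finset.card_univ]
      exact htot
    have h1 := (Finset.sum_eq_sum_iff_of_le fun j _ => hle j).1 he i (Finset.mem_univ _)
    have h2 := Finset.single_le_sum (fun k _ => Nat.zero_le (m i k)) (Finset.mem_univ i)
    have := hpos i
    omega
  exact isIrr_of_classInner_self (hχ i) (by rw [hm, hdiag, Nat.cast_one])

end CfsgLib.MTwelveGraph
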