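import Cfsg.Agent.Small.ClassCheck
import Cfsg.Agent.GaloisAverage.Basic
import Cfsg.Agent.Characters.RepBasic

/-!
# No character of degree `p - 1` when the normaliser is as large as possible

If `G` is simple and a Sylow subgroup `P` of order eleven is self-centralising with a normaliser
of order 110, an irreducible character of degree ten would vanish at the involutions inverting
`P`, against the congruence of the value with the degree modulo four.
-/

set_option autoImplicit false
set_option maxHeartbeats 800000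

namespace CfsgLib.MTwelveGraph

open Cfsg CfsgLib.Small
open scoped ComplexConjugate

variable {G : Type*} [Group G] [Finite G]

/-- The nontrivial elements of `P` are all conjugate in the normaliser when it induces all
automorphisms. -/
theorem conj_all {P : Subgroup G} {p : ℕ} [Fact p.Prime] (hP : Nat.card P = p)
    (hC : Subgroup.centralizer (P : Set G) = P)
    (hN : Nat.card (Subgroup.normalizer (P : Set G)) = p * (p - 1)) {y z : G} (hy : y ∈ P)
    (hy1 : y ≠ 1) (hz : z ∈ P) (hz1 : z ≠ 1) : ∃ g : G, g * y * g⁻¹ = z := by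
  classical
  haveI := Fintype.ofFinite G
  set N := Subgroup.normalizer (P : Set G) with hNdef
  have hgen : Subgroup.zpowers y = P := by
    refine Subgroup.eq_of_le_of_card_ge (Subgroup.zpowers_le.2 hy) ?_
    rw [hP, Nat.card_zpowers]
    have h1 := Small.orderOf_eq_of_mem_prime hP hy hy1
    exact h1.ge
  have hcy : ∀ g : G, g * y * g⁻¹ = y → g ∈ P := fun g hg => by
    rw [← hC, ← hgen]
    refine Subgroup.mem_centralizer_iff.2 fun a ha => ?_
    obtain ⟨i, rfl⟩ := Subgroup.mem_zpowers_iff.1 ha
    exact (Commute.zpow_right (show Commute g y from mul_inv_eq_iff_eq_mul.1 hg) i).eq.symm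
  let f : N → {a : G // a ∈ P ∧ a ≠ 1} := fun g => ⟨(g : G) * y * (g : G)⁻¹,
    (Subgroup.mem_normalizer_iff.1 g.2 y).1 hy, fun h => hy1 (conj_eq_one_iff.1 h)⟩
  have hsurj : Function.Surjective f := by
    have hfib : ∀ g₀ : N, Nat.card {g : N // f g = f g₀} ≤ p := by
      intro g₀
      rw [← hP]
      refine Nat.card_le_card_of_injective (fun g => (⟨(g₀ : G)⁻¹ * (g.1 : G), hcy _ ?_⟩ : P)) ?_
      · have h := congrArg Subtype.val g.2
        simp only [f] at h
        calc (g₀ : G)⁻¹ * (g.1 : G) * y * ((g₀ : G)⁻¹ * (g.1 : G))⁻¹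
            = (g₀ : G)⁻¹ * ((g.1 : G) * y * (g.1 : G)⁻¹) * g₀ := by group
          _ = y := by rw [h]; group
      · intro a b h
        have := congrArg Subtype.val h
        exact Subtype.ext (Subtype.ext (mul_left_cancel this))
    intro w
    by_contra hw
    push Not at hw
    have hsum : Nat.card N = ∑ a : {a : G // a ∈ P ∧ a ≠ 1}, Nat.card {g : N // f g = a} := by
      rw [← Nat.card_congr (Equiv.sigmaFiberEquiv f), Nat.card_sigma]
    have hcard : Fintype.card {a : G // a ∈ P ∧ a ≠ 1} = p - 1 := by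
      have h1 : Fintype.card {a : G // a ∈ P ∧ a ≠ 1} =
          ((Finset.univ.filter (· ∈ P)).erase (1 : G)).card := by
        rw [Fintype.card_subtype]
        congr 1
        ext a; simp [and_comm]
      rw [h1, Finset.card_erase_of_mem (by simp), ← hP, Nat.card_eq_fintype_card, Fintype.card_subtype]
    have hle : ∀ a : {a : G // a ∈ P ∧ a ≠ 1}, Nat.card {g : N // f g = a} ≤ p := by
      intro a
      rcases isEmpty_or_nonempty {g : N // f g = a} with h | ⟨⟨g₀, rfl⟩⟩
      · simp
      · exact hfib g₀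
    have h0 : Nat.card {g : N // f g = w} = 0 := by
      haveI : IsEmpty {g : N // f g = w} := ⟨fun g => hw g.1 g.2⟩
      simp
    have hlt : ∑ a : {a : G // a ∈ P ∧ a ≠ 1}, Nat.card {g : N // f g = a} <
        ∑ _a : {a : G // a ∈ P ∧ a ≠ 1}, p :=
      Finset.sum_lt_sum (fun a _ => hle a)
        ⟨w, Finset.mem_univ _, by rw [h0]; exact (Fact.out : p.Prime).pos⟩
    rw [Finset.sum_const, Finset.card_univ, hcard, smul_eq_mul, ← hsum, hN, mul_comm] at hlt
    exact lt_irrefl _ hlt
  obtain ⟨g, hg⟩ := hsurj ⟨z, hz, hz1⟩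
  exact ⟨g, congrArg Subtype.val hg⟩

/-- A simple group with self-centralising `P` of order eleven and a normaliser of order 110 has
no irreducible character of degree ten. -/
theorem no_degree_ten [IsSimpleGroup G] (hG : ¬ IsMulCommutative G) [Fact (Nat.Prime 11)]
    (P : Subgroup G) (hP : Nat.card P = 11) (hC : Subgroup.centralizer (P : Set G) = P)
    (hN : Nat.card (Subgroup.normalizer (P : Set G)) = 11 * 10) (χ : IrrCharacter G) :
    (χ : G → ℂ) 1 ≠ (10 : ℕ) := by
  classical
  haveI := Fintype.ofFinite G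
  intro h10
  obtain ⟨y, hy, hy1⟩ : ∃ y ∈ P, y ≠ 1 := by
    by_contra h
    push Not at h
    rw [(Subgroup.eq_bot_iff_forall P).2 h, Subgroup.card_bot] at hP
    norm_num at hP
  haveI := Fact.mk Nat.prime_two
  obtain ⟨t', ht'⟩ := exists_prime_orderOf_dvd_card' (G := Subgroup.normalizer (P : Set G)) 2
    (by rw [hN]; norm_num)
  set t : G := (t' : G) with htdef
  have ht : orderOf t = 2 := by rw [htdef, Subgroup.orderOf_coe]; exact ht'
  obtain ⟨v, hv, hv4, -, hvlo, hvhi⟩ := Check.exists_value hG χ h10 (by norm_num) ht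
  obtain ⟨k, ρ, hρ, hχ⟩ := χ.2
  have hdim : Module.finrank ℂ (Fin k → ℂ) = 10 := by
    have h := h10
    rw [← hχ, Representation.char_one] at h
    exact_mod_cast h
  -- the averaging operator
  set A : Module.End ℂ (Fin k → ℂ) := ∑ a : P, ρ (a : G) with hA
  have hmul : ∀ b : P, ρ (b : G) * A = A := fun b => by
    rw [hA, Finset.mul_sum]
    refine Fintype.sum_equiv (Equiv.mulLeft b) _ _ fun a => ?_
    rw [Equiv.coe_mulLeft, Subgroup.coe_mul, map_mul]
  have hsq : A * A = (11 : ℂ) • A := by
    conv_lhs => arg 1; rw [hA]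
    rw [Finset.sum_mul, Finset.sum_congr rfl fun b _ => hmul b, Finset.sum_const, Finset.card_univ,
      ← Nat.card_eq_fintype_card, hP, ← Nat.cast_smul_eq_nsmul ℂ]
    norm_num
  set E : Module.End ℂ (Fin k → ℂ) := (11 : ℂ)⁻¹ • A with hE
  have hEE : IsIdempotentElem E := by
    show E * E = E
    rw [hE, smul_mul_smul_comm, hsq, smul_smul]
    norm_num
  have hproj := (LinearMap.isProj_range_iff_isIdempotentElem E).2 hEE
  obtain ⟨m, hm, hm10⟩ : ∃ m : ℕ, LinearMap.trace ℂ _ E = (m : ℂ) ∧ m ≤ 10 :=
    ⟨Module.finrank ℂ (LinearMap.range E), hproj.trace, hdim ▸ Submodule.finrank_le _⟩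
  have hcy : ∀ z ∈ P, z ≠ 1 → (χ : G → ℂ) z = (χ : G → ℂ) y := fun z hz hz1 => by
    obtain ⟨g, rfl⟩ := conj_all hP hC hN hy hy1 hz hz1
    exact Characters.isClassFunction_of_isIrr χ.2 y g
  have htr : (χ : G → ℂ) 1 + 10 * (χ : G → ℂ) y = 11 * m := by
    rw [← hm, hE, map_smul, hA, map_sum, smul_eq_mul, ← mul_assoc, mul_inv_cancel₀ (by norm_num),
      one_mul, ← Finset.add_sum_erase _ _ (Finset.mem_univ (1 : P))]
    have hch : ∀ g : G, LinearMap.trace ℂ _ (ρ g) = (χ : G → ℂ) g := fun g => by rw [← hχ]; rfl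
    rw [hch, Finset.sum_congr rfl fun (a : P) ha => (hch _).trans
      (hcy a a.2 fun h => (Finset.ne_of_mem_erase ha) (Subtype.ext h)), Finset.sum_const,
      Finset.card_erase_of_mem (Finset.mem_univ _), Finset.card_univ, ← Nat.card_eq_fintype_card, hP,
      nsmul_eq_mul, OneMemClass.coe_one]
    norm_num
  obtain ⟨w, hw⟩ : ∃ w : ℤ, (χ : G → ℂ) y = w := by
    have hq : (χ : G → ℂ) y = (((11 * (m : ℚ) - 10) / 10 : ℚ) : ℂ) := by
      push_cast
      rw [h10] at htr
      push_cast at htr
      field_simp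
      linear_combination htr
    obtain ⟨w, hw⟩ := GaloisAverage.exists_int_of_isIntegral_ratCast (q := (11 * (m : ℚ) - 10) / 10)
      (hq ▸ by rw [← hχ]; exact Characters.char_isIntegral _ _)
    exact ⟨w, hq.trans hw⟩
  rw [h10, hw] at htr
  have hZ : (10 : ℤ) + 10 * w = 11 * m := by exact_mod_cast htr
  have hm0 : m = 0 ∨ m = 10 := by omega
  rcases hm0 with rfl | rfl
  · -- the averaging operator vanishes
    have hE0 : E = 0 := by
      have h0 : LinearMap.range E = ⊥ := by
        have h1 := hproj.trace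
        rw [hm, Nat.cast_inj] at h1
        exact Submodule.finrank_eq_zero.1 h1.symm
      exact LinearMap.range_eq_bot.1 h0
    have hA0 : A = 0 := by
      have h1 := congrArg (fun B => (11 : ℂ) • B) hE0
      simpa [hE, smul_smul] using h1
    have hct : Subgroup.zpowers y = P := by
      refine Subgroup.eq_of_le_of_card_ge (Subgroup.zpowers_le.2 hy) ?_
      rw [hP, Nat.card_zpowers, Small.orderOf_eq_of_mem_prime hP hy hy1]
    have htP : ∀ a ∈ P, t * a * t⁻¹ = a⁻¹ := by
      intro a ha
      have hta : t * a * t⁻¹ ∈ P := (Subgroup.mem_normalizer_iff.1 t'.2 a).1 ha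
      have hzP : t * a * t⁻¹ * a ∈ P := mul_mem hta ha
      by_contra hne
      have hz1 : t * a * t⁻¹ * a ≠ 1 := fun h => hne (mul_eq_one_iff_eq_inv.1 h)
      have htt : t * t = 1 := by rw [← pow_two, ← ht]; exact pow_orderOf_eq_one t
      have hab : a * (t * a * t⁻¹) = t * a * t⁻¹ * a := by
        have h1 := Subgroup.mem_centralizer_iff.1 (hC.ge hta) a ha
        exact h1
      have htinv : t⁻¹ = t := inv_eq_of_mul_eq_one_right htt
      have hfix : t * (t * a * t⁻¹ * a) * t⁻¹ = t * a * t⁻¹ * a := by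
        rw [← hab, htinv]
        calc t * (a * (t * a * t)) * t = t * a * t * a * (t * t) := by group
          _ = t * a * t * a := by rw [htt, mul_one]
          _ = a * (t * a * t) := by rw [htinv] at hab; exact hab.symm
      have hzp : Subgroup.zpowers (t * a * t⁻¹ * a) = P := by
        refine Subgroup.eq_of_le_of_card_ge (Subgroup.zpowers_le.2 hzP) ?_
        rw [hP, Nat.card_zpowers, Small.orderOf_eq_of_mem_prime hP hzP hz1]
      have htmem : t ∈ P := by
        rw [← hC]
        refine Subgroup.mem_centralizer_iff.2 fun c hc => ?_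
        obtain ⟨j, rfl⟩ := Subgroup.mem_zpowers_iff.1 (show c ∈ Subgroup.zpowers (t * a * t⁻¹ * a) by rw [hzp]; exact hc)
        exact (Commute.zpow_right (show Commute t (t * a * t⁻¹ * a) from mul_inv_eq_iff_eq_mul.1 hfix) j).eq.symm
      have ht1 : t ≠ 1 := fun h => by rw [h, orderOf_one] at ht; norm_num at ht
      have := Small.orderOf_eq_of_mem_prime hP htmem ht1
      omega
    have hval : ∀ a : P, (χ : G → ℂ) ((a : G) * t) = v := by
      intro a
      obtain ⟨b, hb, hbb⟩ : ∃ b ∈ P, b * b = (a : G) := ⟨(a : G) ^ 6, pow_mem a.2 6, by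
        have h11 : (a : G) ^ 11 = 1 := by
          have := congrArg Subtype.val (pow_card_eq_one' (x := a))
          rwa [hP] at this
        rw [← pow_add, show 6 + 6 = 11 + 1 by norm_num, pow_succ, h11, one_mul]⟩
      have he : b * t * b⁻¹ = (a : G) * t := by
        have h1 := htP b⁻¹ (inv_mem hb)
        rw [inv_inv] at h1
        calc b * t * b⁻¹ = b * (t * b⁻¹ * t⁻¹) * t := by group
          _ = (a : G) * t := by rw [h1, hbb]
      rw [← he, Characters.isClassFunction_of_isIrr χ.2 t b, hv]
    have hs : ∑ a : P, (χ : G → ℂ) ((a : G) * t) = 0 := by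
      have h1 : LinearMap.trace ℂ _ (A * ρ t) = 0 := by rw [hA0, zero_mul, map_zero]
      rw [hA, Finset.sum_mul, map_sum] at h1
      rw [← h1]
      refine Finset.sum_congr rfl fun a _ => ?_
      rw [← hχ, ← map_mul]
      rfl
    rw [Finset.sum_congr rfl fun a _ => hval a, Finset.sum_const, Finset.card_univ,
      ← Nat.card_eq_fintype_card, hP, nsmul_eq_mul] at hs
    have : v = 0 := by exact_mod_cast (mul_eq_zero.1 hs).resolve_left (by norm_num)
    omega
  · -- `P` acts trivially
    have hEtop : LinearMap.range E = ⊤ := by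
      refine Submodule.eq_top_of_finrank_eq ?_
      have h1 := hproj.trace
      rw [hm, Nat.cast_inj] at h1
      rw [← h1, hdim]
    have hE1 : E = 1 := by
      refine LinearMap.ext fun x => ?_
      obtain ⟨z, rfl⟩ := (hEtop ▸ Submodule.mem_top : x ∈ LinearMap.range E)
      exact LinearMap.congr_fun hEE.eq z
    have hρy : ρ y = 1 := by
      have h1 : ρ y * E = E := by rw [hE, mul_smul_comm, hmul ⟨y, hy⟩]
      rwa [hE1, mul_one] at h1
    have hker : (MonoidHom.ker (ρ : G →* Module.End ℂ (Fin k → ℂ))) = ⊤ :=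
      ((MonoidHom.normal_ker _).eq_bot_or_eq_top).resolve_left fun h =>
        hy1 ((Subgroup.eq_bot_iff_forall _).1 h y (MonoidHom.mem_ker.2 hρy))
    have hρt : ρ t = 1 := MonoidHom.mem_ker.1 (hker ▸ Subgroup.mem_top t)
    have hvt : (χ : G → ℂ) t = (10 : ℕ) := by
      rw [← h10, ← hχ, Representation.character, hρt, Representation.char_one]
      simp [hdim]
    rw [hv] at hvt
    have : v = 10 := by exact_mod_cast hvt
    omega

end CfsgLib.MTwelveGraph
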