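import Cfsg.Agent.MTwelveGraph.Scheme
import Cfsg.Agent.MTwelveGraph.Decomposition
import Cfsg.Agent.DegreeGraph.Basic
import Cfsg.Agent.Characters.Linear

/-!
# Two degrees of the Mathieu group of degree twelve

The permutation module on the 220 triples splits into pieces of dimensions 1, 11, 54, 55, 99.
-/

set_option autoImplicit false
set_option maxRecDepth 100000

namespace CfsgLib.MTwelveGraph.Scheme

open Cfsg CfsgLib.Mathieu CfsgLib.Mathieu.S12

/-- The values of the five idempotents on the classes, times their denominators. -/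
def val : Fin 5 → Fin 5 → ℤ :=
  ![![1, 1, 1, 1, 1], ![-33, 11, 55, 99, -33], ![9, -13, 20, 108, 9], ![-165, 55, -220, 1980, 825],
    ![11, 11, -44, 396, -99]]

/-- The denominators. -/
def den : Fin 5 → ℤ := ![220, 1980, 440, 7920, 880]

theorem den_ne_zero : ∀ i, den i ≠ 0 := by decide

/-- The dimensions of the five pieces. -/
def deg : Fin 5 → ℕ := ![1, 11, 54, 55, 99]

theorem deg_spec : ∀ i, 220 * val i 3 = den i * deg i := by decide

/-- The cofactors of the denominators in their common multiple. -/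
def cof : Fin 5 → ℤ := ![72, 8, 36, 2, 18]

theorem cof_spec : ∀ i, cof i * den i = 15840 := by decide

theorem col_sum : ∀ k : Fin 5, ∑ i, cof i * val i k = if k = 3 then 15840 else 0 := by decide

/-- The class as an index. -/
def clsIdx (x y : Triple) : Fin 5 := ⟨cls x y, cls_lt x y⟩

/-- The class of two masks as an index. -/
def idxOf (a b : ℕ) : Fin 5 := Fin.ofNat 5 (classOf a b)

theorem clsIdx_eq (x y : Triple) :
    clsIdx x y = idxOf (mask (x : Finset (Fin 12))) (mask (y : Finset (Fin 12))) :=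
  Fin.ext (Nat.mod_eq_of_lt (cls_lt x y)).symm

theorem clsIdx_smul (g : Aut12) (x y : Triple) : clsIdx (g • x) (g • y) = clsIdx x y :=
  Fin.ext (cls_smul g x y)

theorem table : ∀ i k : Fin 5,
    (triples.map fun m => val i (idxOf 7 m) *
      val i (idxOf m (([88, 25, 11, 7, 56] : List ℕ).getD k.val 0))).sum = den i * val i k := by
  decide +kernel

theorem mask_rep : ∀ k : Fin 5,
    mask (rep k : Finset (Fin 12)) = ([88, 25, 11, 7, 56] : List ℕ).getD k.val 0 := by decide +kernel

theorem sum_triples {M : Type*} [AddCommMonoid M] (f : ℕ → M) :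
    ∑ z : Triple, f (mask (z : Finset (Fin 12))) = (triples.map f).sum := by
  rw [← Equiv.sum_comp (Equiv.ofBijective point point_bijective)]
  have hlen : triples.length = 220 := triples_spec.2.1
  rw [← List.sum_toFinset f triples_spec.1]
  refine Finset.sum_bij (fun i _ => mask ((point i : Triple) : Finset (Fin 12)))
    (fun i _ => List.mem_toFinset.2 (mask_mem_triples _)) (fun i _ j _ h => point_bijective.1 (triple_eq h))
    (fun m hm => ?_) fun i _ => rfl
  obtain ⟨n, hn, rfl⟩ := List.getElem_of_mem (List.mem_toFinset.1 hm)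
  refine ⟨⟨n, hlen ▸ hn⟩, Finset.mem_univ _, ?_⟩
  show mask (set12 (triples.getD n 0)) = _
  rw [List.getD_eq_getElem _ _ hn, mask_set12 (triples_spec.2.2 _ (List.getElem_mem _)).1]

theorem key (i : Fin 5) (x y : Triple) :
    ∑ z, val i (clsIdx x z) * val i (clsIdx z y) = den i * val i (clsIdx x y) := by
  obtain ⟨g, hx, hy⟩ := exists_to_rep x y
  have h1 : ∀ z, val i (clsIdx x z) * val i (clsIdx z y) =
      val i (clsIdx base (g • z)) * val i (clsIdx (g • z) (rep (clsIdx x y))) := fun z => by
    conv_lhs => rw [← clsIdx_smul g x z, ← clsIdx_smul g z y, hx, hy]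
    rfl
  rw [Finset.sum_congr rfl fun z _ => h1 z]
  refine (Equiv.sum_comp (MulAction.toPerm g) fun z => val i (clsIdx base z) * val i (clsIdx z (rep (clsIdx x y)))).trans ?_
  simp only [clsIdx_eq base, fun z => clsIdx_eq z (rep (clsIdx x y)), mask_base, mask_rep]
  rw [sum_triples fun m => val i (idxOf 7 m) * val i (idxOf m (([88, 25, 11, 7, 56] : List ℕ).getD
    (clsIdx x y).val 0))]
  exact table i _

/-- The five idempotents. -/
noncomputable def proj (i : Fin 5) : Module.End ℂ (Triple → ℂ) :=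
  Matrix.toLin' (Matrix.of fun x y : Triple => (val i (clsIdx x y) : ℂ) / den i)

theorem proj_idem (i : Fin 5) : IsIdempotentElem (proj i) := by
  rw [IsIdempotentElem, proj, Module.End.mul_eq_comp, ← Matrix.toLin'_mul]
  congr 1
  refine Matrix.ext fun x y => ?_
  have hd : (den i : ℂ) ≠ 0 := Int.cast_ne_zero.2 (den_ne_zero i)
  rw [Matrix.mul_apply]
  simp only [Matrix.of_apply, div_mul_div_comm, ← Finset.sum_div, ← Int.cast_mul, ← Int.cast_sum,
    key i x y]
  rw [Int.cast_mul, Int.cast_mul, mul_div_mul_left _ _ hd]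

theorem proj_comm (i : Fin 5) (g : Aut12) : Commute (Cfsg.permRep ℂ Aut12 Triple g) (proj i) := by
  refine LinearMap.ext fun f => funext fun x => ?_
  simp only [Module.End.mul_apply]
  show proj i f (g⁻¹ • x) = proj i (Cfsg.permRep ℂ Aut12 Triple g f) x
  simp only [proj, Matrix.toLin'_apply, Matrix.mulVec, dotProduct, Matrix.of_apply]
  refine Fintype.sum_equiv (MulAction.toPerm g) _ _ fun z => ?_
  show _ = _ * f (g⁻¹ • (g • z))
  rw [inv_smul_smul, ← clsIdx_smul g (g⁻¹ • x) z, smul_inv_smul]
  rfl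

theorem cls_self (x : Triple) : clsIdx x x = 3 := by
  refine Fin.ext ?_
  show cls x x = 3
  have h : (x : Finset (Fin 12)).card = 3 := x.2
  rw [cls, classOf_mask, Finset.inter_self, h]
  simp

theorem trace_proj (i : Fin 5) : LinearMap.trace ℂ (Triple → ℂ) (proj i) = deg i := by
  have hd : (den i : ℂ) ≠ 0 := Int.cast_ne_zero.2 (den_ne_zero i)
  have hs : (220 : ℂ) * val i 3 = den i * deg i := by exact_mod_cast deg_spec i
  refine Eq.trans ?_ (show (220 : ℂ) * (val i 3 : ℂ) / den i = deg i by
    rw [hs, mul_div_cancel_left₀ _ hd])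
  rw [proj, LinearMap.trace_eq_matrix_trace ℂ (Pi.basisFun ℂ Triple), LinearMap.toMatrix_eq_toMatrix',
    LinearMap.toMatrix'_toLin', Matrix.trace]
  simp only [Matrix.diag, Matrix.of_apply, cls_self, Finset.sum_const, nsmul_eq_mul, mul_div_assoc]
  congr 1
  rw [Finset.card_univ, ← Nat.card_eq_fintype_card, Set.powersetCard.card, Nat.card_eq_fintype_card,
    Fintype.card_fin]
  norm_num [Nat.choose]

theorem sum_proj : ∑ i, proj i = 1 := by
  simp only [proj, ← map_sum]
  rw [Module.End.one_eq_id, ← Matrix.toLin'_one]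
  congr 1
  refine Matrix.ext fun x y => ?_
  rw [Matrix.sum_apply, Matrix.one_apply]
  simp only [Matrix.of_apply]
  have hterm : ∀ i, (val i (clsIdx x y) : ℂ) / den i =
      ((cof i * val i (clsIdx x y) : ℤ) : ℂ) / 15840 := fun i => by
    rw [div_eq_div_iff (Int.cast_ne_zero.2 (den_ne_zero i)) (by norm_num)]
    have : ((cof i * den i : ℤ) : ℂ) = 15840 := by exact_mod_cast cof_spec i
    push_cast at this ⊢
    rw [← this]
    ring
  rw [Finset.sum_congr rfl fun i _ => hterm i, ← Finset.sum_div, ← Int.cast_sum, col_sum]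
  by_cases h : x = y
  · subst h
    rw [if_pos rfl, if_pos (cls_self x)]
    norm_num
  · rw [if_neg h, if_neg ?_]
    · simp
    intro he
    have h3 : cls x y = 3 := congrArg Fin.val he
    rw [cls, classOf_mask] at h3
    split_ifs at h3 with hc
    · exact absurd h3 (by norm_num)
    refine h (Subtype.ext ?_)
    have hx : (x : Finset (Fin 12)).card = 3 := x.2
    have hy : (y : Finset (Fin 12)).card = 3 := y.2
    exact (Finset.eq_of_subset_of_card_le (Finset.inter_subset_left) (le_of_eq (hx.trans h3.symm))).symm.trans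
      (Finset.eq_of_subset_of_card_le (Finset.inter_subset_right) (le_of_eq (hy.trans h3.symm)))

theorem exists_degree (i : Fin 5) :
    ∃ χ : ↥Spor.M12 → ℂ, Cfsg.IsIrrCharacter ↥Spor.M12 χ ∧ χ 1 = deg i := by
  classical
  haveI : Fintype Aut12 := Fintype.ofFinite _
  obtain ⟨Φ, -⟩ := autStd12_equiv
  have hne : ∀ j, LinearMap.trace ℂ (Triple → ℂ) (proj j) ≠ 0 := by
    intro j
    rw [trace_proj, Nat.cast_ne_zero]
    revert j
    decide
  have horb := card_orbits_le
  have hirr := MTwelveGraph.isIrr_of_idempotents (G := Aut12) (Ω := Triple) proj proj_idem proj_comm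
    sum_proj hne (by rwa [Fintype.card_fin]) i
  refine ⟨_, CfsgLib.Characters.isIrr_comp Φ.toMonoidHom Φ.surjective hirr, ?_⟩
  rw [← trace_proj, map_one, map_one, one_mul]

theorem exists_fiftyfive : ∃ χ : ↥Spor.M12 → ℂ, Cfsg.IsIrrCharacter ↥Spor.M12 χ ∧ χ 1 = (55 : ℕ) :=
  exists_degree 3

theorem exists_ninetynine : ∃ χ : ↥Spor.M12 → ℂ, Cfsg.IsIrrCharacter ↥Spor.M12 χ ∧ χ 1 = (99 : ℕ) :=
  exists_degree 4

end CfsgLib.MTwelveGraph.Scheme
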