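import Cfsg.Agent.MTwelveGraph.Block
import Cfsg.Agent.MTwelveGraph.DegreeTen
import Cfsg.Agent.MElevenUnique.Counts
import Cfsg.Agent.Characters.Generalized

/-!
# A simple group of order 7920 has no degree divisible by 33

The values at an element of order five are integers whose squares sum to five and which are
orthogonal to the degrees; a degree 12 or 16 from the principal block for the prime 11 leaves no
room for a degree 33 or 66.
-/

set_option autoImplicit false
set_option maxHeartbeats 800000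

namespace CfsgLib.MTwelveGraph

open Cfsg CfsgLib.Small CfsgLib.Classification.OrderRange
open scoped ComplexConjugate

universe u

variable {G : Type u} [Group G] [Finite G]

/-- At an element generating a self-centralising subgroup of prime order with all its nontrivial
elements conjugate, character values are integers congruent to the degree. -/
theorem exists_int_value {P : Subgroup G} {p : ℕ} [Fact p.Prime] (hP : Nat.card P = p)
    (hC : Subgroup.centralizer (P : Set G) = P)
    (hN : Nat.card (Subgroup.normalizer (P : Set G)) = p * (p - 1)) {y : G} (hy : y ∈ P)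
    (hy1 : y ≠ 1) (χ : IrrCharacter G) {n : ℕ} (hn : (χ : G → ℂ) 1 = n) :
    ∃ v : ℤ, (χ : G → ℂ) y = v ∧ (p : ℤ) ∣ (n : ℤ) - v := by
  classical
  haveI := Fintype.ofFinite G
  obtain ⟨z, hz⟩ := Characters.classInner_gen
    (Characters.isGen_restrict P (Characters.isGen_of_isIrr χ.2)) (Characters.isGen_one (G := P))
  have hsum : (χ : G → ℂ) 1 + ((p - 1 : ℕ) : ℂ) * (χ : G → ℂ) y = (p : ℂ) * z := by
    rw [← hz, Cfsg.classInner, hP, ← mul_assoc,
      mul_inv_cancel₀ (Nat.cast_ne_zero.2 (Fact.out : p.Prime).ne_zero), one_mul,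
      ← Finset.add_sum_erase _ _ (Finset.mem_univ (1 : P)),
      Finset.sum_congr rfl (g := fun _ => (χ : G → ℂ) y) fun a ha => ?_, Finset.sum_const,
      Finset.card_erase_of_mem (Finset.mem_univ _), Finset.card_univ, ← Nat.card_eq_fintype_card, hP,
      nsmul_eq_mul]
    · simp
    · obtain ⟨g, hg⟩ := conj_all hP hC hN hy hy1 a.2 fun h => (Finset.ne_of_mem_erase ha) (Subtype.ext h)
      simp [← hg, Characters.isClassFunction_of_isIrr χ.2 y g]
  have hp1 : ((p - 1 : ℕ) : ℂ) ≠ 0 :=
    Nat.cast_ne_zero.2 (by have := (Fact.out : p.Prime).two_le; omega)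
  have hq : (χ : G → ℂ) y = ((((p : ℚ) * z - n) / ((p - 1 : ℕ) : ℚ) : ℚ) : ℂ) := by
    rw [hn] at hsum
    push_cast
    rw [eq_div_iff hp1]
    linear_combination hsum
  obtain ⟨w, hw⟩ := GaloisAverage.exists_int_of_isIntegral_ratCast
    (q := ((p : ℚ) * z - n) / ((p - 1 : ℕ) : ℚ)) (hq ▸ by
      obtain ⟨k, ρ, hρ, hχ⟩ := χ.2
      rw [← hχ]; exact Characters.char_isIntegral _ _)
  refine ⟨w, hq.trans hw, ?_⟩
  rw [hn, hq, hw] at hsum
  have hZ : (n : ℤ) + ((p - 1 : ℕ) : ℤ) * w = (p : ℤ) * z := by exact_mod_cast hsum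
  rw [Nat.cast_sub (Fact.out : p.Prime).one_lt.le, Nat.cast_one] at hZ
  exact ⟨z - w, by linear_combination hZ⟩

theorem block_check : killedL 7920 11 5 1 (fun d => d == 12 || d == 16)
    ((candsM 7920 11 1 89).filter fun x => !(x.1 == 12 || x.1 == 16)) 4 1 7919 = true := by
  decide +kernel

variable [IsSimpleGroup G]

/-- A degree 12 or 16 occurs. -/
theorem exists_twelve_or_sixteen (hG : Nat.card G = 7920) :
    ∃ χ : IrrCharacter G, (χ : G → ℂ) 1 = (12 : ℕ) ∨ (χ : G → ℂ) 1 = (16 : ℕ) := by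
  classical
  haveI := Fintype.ofFinite G
  haveI : Fact (Nat.Prime 11) := ⟨by norm_num⟩
  have hna := MElevenUnique.nc hG
  obtain ⟨P⟩ : Nonempty (Sylow 11 G) := inferInstance
  have hP := MElevenUnique.card_sylow11 hG P
  obtain ⟨hn, hC⟩ := MElevenUnique.eleven hG P
  change Nat.card (Subgroup.centralizer ((P : Subgroup G) : Set G)) = 11 at hC
  have hNc := Small.card_sylow_mul_card_normalizer P
  rw [hn, hG] at hNc
  have hrel : (Subgroup.centralizer ((P : Subgroup G) : Set G)).relIndex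
      (Subgroup.normalizer ((P : Subgroup G) : Set G)) = 5 := by
    have h := Small.card_centralizer_mul_relIndex (P : Subgroup G)
    rw [hC] at h
    omega
  obtain ⟨L, d, h1, h2, h3, h4, h5, h6, h7, h8, h9, h10, ⟨θ, hθ⟩, -⟩ :=
    block_degrees (M := 89) hna (by norm_num) P hP hG (by norm_num) hrel (by norm_num) (by norm_num)
      (c := 1) (by rw [hC])
  have hdeg : ∀ (χ : IrrCharacter G) (a : ℕ), Cfsg.charDegree (χ : G → ℂ) = a → (χ : G → ℂ) 1 = a :=
    fun χ a h => by rw [← h, Blocks.charDegree_cast]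
  by_cases hL : ∀ x ∈ L, x ∈ (candsM 7920 11 1 89).filter fun x => !(x.1 == 12 || x.1 == 16)
  · have h := killedL_spec _ L _ _ _ block_check (by omega) hL d h3 h4 h5 h6 h7 h8 h9
    simp only [Bool.or_eq_true, beq_iff_eq] at h
    rcases h with h | h
    · exact ⟨θ, Or.inl (hdeg θ 12 (hθ.trans h))⟩
    · exact ⟨θ, Or.inr (hdeg θ 16 (hθ.trans h))⟩
  · push Not at hL
    obtain ⟨x, hx, hxn⟩ := hL
    simp only [List.mem_filter, h2 x hx, true_and, Bool.not_eq_true, Bool.not_eq_false', Bool.or_eq_true,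
      beq_iff_eq] at hxn
    obtain ⟨χ, hχ⟩ := h10 x hx
    rcases hxn with h | h
    · exact ⟨χ, Or.inl (hdeg χ 12 (hχ.trans h))⟩
    · exact ⟨χ, Or.inr (hdeg χ 16 (hχ.trans h))⟩

/-- Degrees that may occur beside one of 12, 16 and one of 33, 66. -/
def otherDegrees : List ℕ := (List.range 89).filter fun d => decide (2 ≤ d) && 7920 % d == 0

/-- The signed sums left by the orthogonality. -/
theorem pair_check : (otherDegrees.all fun a => otherDegrees.all fun b =>
    [(1 : ℤ), -1].all fun s => [(1 : ℤ), -1].all fun t =>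
      !(((a : ℤ) - s) % 5 == 0 && ((b : ℤ) - t) % 5 == 0) ||
        (!(83 + s * a + t * b == 0) && !(83 + s * a == 0))) = true := by decide +kernel

/-- A simple group of order 7920 has no degree divisible by 33. -/
theorem not_dvd_degree (hG : Nat.card G = 7920) (χ : IrrCharacter G) {d : ℕ}
    (hd : (χ : G → ℂ) 1 = d) : ¬ 33 ∣ d := by
  classical
  haveI := Fintype.ofFinite G
  intro h33
  haveI := Fact.mk Nat.prime_five
  have hna := MElevenUnique.nc hG
  obtain ⟨Y⟩ : Nonempty (Sylow 5 G) := inferInstance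
  have hY := MElevenUnique.card_sylow5 hG Y
  obtain ⟨hN, hC10, -⟩ := MElevenUnique.five hG Y
  change Nat.card (Subgroup.normalizer ((Y : Subgroup G) : Set G)) = 20 at hN
  change Nat.card (Subgroup.centralizer ((Y : Subgroup G) : Set G)) ∣ 10 at hC10
  haveI := isCyclic_of_prime_card hY
  have hYC : (Y : Subgroup G) ≤ Subgroup.centralizer ((Y : Subgroup G) : Set G) :=
    Subgroup.le_centralizer (Y : Subgroup G)
  obtain ⟨y, hy, hy1⟩ : ∃ y ∈ (Y : Subgroup G), y ≠ 1 := by
    by_contra h
    push Not at h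
    rw [(Subgroup.eq_bot_iff_forall _).2 h, Subgroup.card_bot] at hY
    norm_num at hY
  have hy5 : orderOf y = 5 := Small.orderOf_eq_of_mem_prime hY hy hy1
  have hC : Subgroup.centralizer ((Y : Subgroup G) : Set G) = Y := by
    refine (Subgroup.eq_of_le_of_card_ge hYC ?_).symm
    rw [hY]
    by_contra hgt
    have h2 : 2 ∣ Nat.card (Subgroup.centralizer ((Y : Subgroup G) : Set G)) := by
      have h5 := hY ▸ Subgroup.card_dvd_of_le hYC
      obtain ⟨a, ha⟩ := h5
      have hle := Nat.le_of_dvd (by norm_num) hC10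
      exact ⟨5, by omega⟩
    haveI := Fact.mk Nat.prime_two
    obtain ⟨v, hv⟩ := exists_prime_orderOf_dvd_card' 2 h2
    have hvo : orderOf (v : G) = 2 := by rw [Subgroup.orderOf_coe]; exact hv
    have h48 := MElevenUnique.card_Cg_two hG hvo
    have hym : y ∈ MElevenUnique.Cg (v : G) :=
      Subgroup.mem_centralizer_iff.2 fun a ha => by
        rw [Set.mem_singleton_iff.1 ha]
        exact (Subgroup.mem_centralizer_iff.1 v.2 y hy).symm
    have h5 := Subgroup.orderOf_dvd_natCard _ hym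
    rw [h48, hy5] at h5
    norm_num at h5
  have hN' : Nat.card (Subgroup.normalizer ((Y : Subgroup G) : Set G)) = 5 * (5 - 1) := by rw [hN]
  have hval : ∀ ψ : IrrCharacter G, ∃ (n : ℕ) (v : ℤ), (ψ : G → ℂ) 1 = n ∧ (ψ : G → ℂ) y = v ∧
      (5 : ℤ) ∣ (n : ℤ) - v ∧ n ∣ 7920 ∧ n * n ≤ 7920 ∧ (ψ ≠ PrincipalBlock.trivChar G → 2 ≤ n) := by
    intro ψ
    obtain ⟨n, hn0, hn, -, hdvd⟩ := ClassPairs.exists_irr_degree ψ
    obtain ⟨v, hv, hv5⟩ := exists_int_value hY hC hN' hy hy1 ψ hn
    refine ⟨n, v, hn, hv, by exact_mod_cast hv5, hG ▸ hdvd, ?_, fun hne => ?_⟩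
    · have hle := Finset.single_le_sum
        (f := fun φ : IrrCharacter G => Cfsg.charDegree (φ : G → ℂ) ^ 2)
        (fun _ _ => Nat.zero_le _) (Finset.mem_univ ψ)
      rw [LargePrime.sum_charDegree_sq, hG] at hle
      have : Cfsg.charDegree (ψ : G → ℂ) = n :=
        Nat.cast_injective (R := ℂ) (by rw [Blocks.charDegree_cast]; exact hn)
      simp only [this, sq] at hle
      exact hle
    · by_contra h
      exact hne (SylowPrimeOrder.eq_trivChar_of_degree_one hna (Nat.cast_injective (R := ℂ) (by rw [Blocks.charDegree_cast, hn]; norm_cast; omega)))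
  choose n v hn hv h5 hndvd hnsq hn2 using hval
  set χ₀ := PrincipalBlock.trivChar G
  have hv0 : v χ₀ = 1 := by
    have h := hv χ₀
    have h1 : (χ₀ : G → ℂ) y = 1 := PrincipalBlock.trivChar_apply y
    rw [h1] at h
    exact_mod_cast h.symm
  have hn0 : n χ₀ = 1 := by
    have h := hn χ₀
    have h1 : (χ₀ : G → ℂ) 1 = 1 := PrincipalBlock.trivChar_apply 1
    rw [h1] at h
    exact_mod_cast h.symm
  have hsq : ∑ ψ, v ψ * v ψ = 5 := by
    have h := Characters.sum_irr_mul_conj_of_isConj (G := G) (IsConj.refl y)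
    rw [Small.centralizer_singleton_eq_of_prime hY hy hy1, hC, hY] at h
    simp only [hv, map_intCast] at h
    exact_mod_cast h
  have horth : ∑ ψ, (n ψ : ℤ) * v ψ = 0 := by
    have h := Characters.sum_irr_mul_conj_of_not_isConj (G := G) (g := 1) (h := y)
      (fun h => hy1 (isConj_one_right.1 h))
    simp only [hv, hn, map_intCast] at h
    exact_mod_cast h
  -- the two known characters
  have hdn : n χ = d := by
    have h := (hn χ).symm.trans hd
    exact_mod_cast h
  obtain ⟨ξ, hξ⟩ := exists_twelve_or_sixteen hG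
  have hξn : n ξ = 12 ∨ n ξ = 16 := by
    rcases hξ with h | h <;> [left; right] <;> exact_mod_cast (hn ξ).symm.trans h
  have hd88 : d = 33 ∨ d = 66 := by
    obtain ⟨a, rfl⟩ := h33
    have := hnsq χ
    rw [hdn] at this
    have ha : a ≤ 2 := by nlinarith
    interval_cases a
    · exfalso
      have := hndvd χ
      rw [hdn] at this
      norm_num at this
    all_goals norm_num
  have hvξ : (n ξ = 12 → 4 ≤ v ξ * v ξ) ∧ (n ξ = 16 → v ξ ≠ 0) := by
    have := h5 ξ
    constructor <;> intro h <;> rw [h] at this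
    · by_contra hlt
      have hb : -2 < v ξ ∧ v ξ < 2 := by constructor <;> nlinarith
      obtain ⟨hb1, hb2⟩ := hb
      interval_cases v ξ <;> norm_num at this
    · intro hz
      rw [hz] at this; norm_num at this
  have hvχ : (d = 33 → 4 ≤ v χ * v χ) ∧ (d = 66 → v χ ≠ 0) := by
    have := h5 χ
    constructor <;> intro h <;> rw [hdn, h] at this
    · by_contra hlt
      have hb : -2 < v χ ∧ v χ < 2 := by constructor <;> nlinarith
      obtain ⟨hb1, hb2⟩ := hb
      interval_cases v χ <;> norm_num at this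
    · intro hz
      rw [hz] at this; norm_num at this
  have hne1 : χ ≠ χ₀ := fun h => by rw [h, hn0] at hdn; omega
  have hne2 : ξ ≠ χ₀ := fun h => by rw [h, hn0] at hξn; omega
  have hne3 : ξ ≠ χ := fun h => by rw [h, hdn] at hξn; omega
  set R := ((Finset.univ.erase χ₀).erase χ).erase ξ with hR
  have hsplit : ∀ f : IrrCharacter G → ℤ, ∑ ψ, f ψ = f χ₀ + f χ + f ξ + ∑ ψ ∈ R, f ψ := fun f => by
    rw [hR, add_assoc, add_assoc,
      Finset.add_sum_erase _ _ (Finset.mem_erase.2 ⟨hne3, Finset.mem_erase.2 ⟨hne2, Finset.mem_univ _⟩⟩),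
      Finset.add_sum_erase _ _ (Finset.mem_erase.2 ⟨hne1, Finset.mem_univ _⟩),
      Finset.add_sum_erase _ _ (Finset.mem_univ _)]
  rw [hsplit, hv0, hn0] at horth
  rw [hsplit, hv0] at hsq
  have hRnn : 0 ≤ ∑ ψ ∈ R, v ψ * v ψ := Finset.sum_nonneg fun ψ _ => mul_self_nonneg _
  have h1le : ∀ a : ℤ, a ≠ 0 → 1 ≤ a * a := fun a ha => by have := mul_self_pos.2 ha; omega
  have hd66 : d = 66 := hd88.resolve_left fun h => by
    have := hvχ.1 h
    rcases hξn with e | e
    · have := hvξ.1 e; omega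
    · have := h1le _ (hvξ.2 e); omega
  have hχ1 := h1le _ (hvχ.2 hd66)
  have hξ16 : n ξ = 16 := hξn.resolve_left fun e => by have := hvξ.1 e; omega
  have hξ1 := h1le _ (hvξ.2 hξ16)
  have hsmall : ∀ a : ℤ, a * a ≤ 3 → a = -1 ∨ a = 0 ∨ a = 1 := fun a ha => by
    have h1 : -2 < a := by nlinarith
    have h2 : a < 2 := by nlinarith
    omega
  have hvχ1 : v χ = 1 := by
    have := h5 χ
    rw [hdn, hd66] at this
    rcases hsmall (v χ) (by omega) with e | e | e <;> rw [e] at this <;> norm_num at this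
    exact e
  have hvξ1 : v ξ = 1 := by
    have := h5 ξ
    rw [hξ16] at this
    rcases hsmall (v ξ) (by omega) with e | e | e <;> rw [e] at this <;> norm_num at this
    exact e
  rw [hvχ1, hvξ1, hξ16, hdn, hd66] at horth
  rw [hvχ1, hvξ1] at hsq
  -- at most two further characters, with values `±1`
  set T := R.filter fun ψ => v ψ ≠ 0
  have hTsq : ∑ ψ ∈ T, v ψ * v ψ = 2 := by
    rw [Finset.sum_filter_of_ne fun ψ _ h => left_ne_zero_of_mul h]
    omega
  have hTdeg : ∑ ψ ∈ T, (n ψ : ℤ) * v ψ = -83 := by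
    rw [Finset.sum_filter_of_ne fun ψ _ h => right_ne_zero_of_mul h]
    push_cast at horth
    linarith
  have hTcard : T.card ≤ 2 := by
    have h := Finset.card_nsmul_le_sum T (fun ψ => v ψ * v ψ) 1
      (fun ψ hψ => h1le _ (Finset.mem_filter.1 hψ).2)
    simp at h
    omega
  have hgood : ∀ ψ ∈ T, n ψ ∈ otherDegrees ∧ (v ψ = 1 ∨ v ψ = -1) ∧ ((n ψ : ℤ) - v ψ) % 5 = 0 := by
    intro ψ hψ
    obtain ⟨hψR, hψv⟩ := Finset.mem_filter.1 hψ
    have hψ0 : ψ ≠ χ₀ := by
      simp only [hR, Finset.mem_erase] at hψR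
      exact hψR.2.2.1
    refine ⟨?_, ?_, Int.emod_eq_zero_of_dvd (h5 ψ)⟩
    · simp only [otherDegrees, List.mem_filter, List.mem_range, Bool.and_eq_true, decide_eq_true_eq,
        beq_iff_eq]
      refine ⟨?_, hn2 ψ hψ0, Nat.mod_eq_zero_of_dvd (hndvd ψ)⟩
      have := hnsq ψ
      nlinarith
    · have h := Finset.single_le_sum (f := fun φ => v φ * v φ) (fun φ _ => mul_self_nonneg _) hψ
      rcases hsmall (v ψ) (by rw [hTsq] at h; omega) with e | e | e
      · exact Or.inr e
      · exact absurd e hψv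
      · exact Or.inl e
  have hpc := pair_check
  simp only [List.all_eq_true] at hpc
  have hsgn : ∀ a : ℤ, a = 1 ∨ a = -1 → a ∈ [(1 : ℤ), -1] := fun a ha => by
    rcases ha with rfl | rfl <;> simp
  rcases (show T.card = 0 ∨ T.card = 1 ∨ T.card = 2 by omega) with h | h | h
  · rw [Finset.card_eq_zero.1 h, Finset.sum_empty] at hTdeg
    norm_num at hTdeg
  · obtain ⟨a, ha⟩ := Finset.card_eq_one.1 h
    rw [ha, Finset.sum_singleton] at hTsq
    obtain ⟨-, hs, -⟩ := hgood a (by rw [ha]; exact Finset.mem_singleton_self a)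
    rcases hs with e | e <;> rw [e] at hTsq <;> norm_num at hTsq
  · obtain ⟨a, b, hab, hT⟩ := Finset.card_eq_two.1 h
    rw [hT, Finset.sum_pair hab] at hTdeg
    obtain ⟨ha1, ha2, ha3⟩ := hgood a (by rw [hT]; simp)
    obtain ⟨hb1, hb2, hb3⟩ := hgood b (by rw [hT]; simp)
    have h' := hpc _ ha1 _ hb1 _ (hsgn _ ha2) _ (hsgn _ hb2)
    simp only [ha3, hb3, beq_self_eq_true, Bool.and_self, Bool.not_true, Bool.false_or,
      Bool.and_eq_true, Bool.not_eq_true', beq_eq_false_iff_ne] at h'
    exact h'.1 (by linarith)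

end CfsgLib.MTwelveGraph
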