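import Cfsg.Agent.Small.ClassCheck

/-!
# The search for degrees and involution values, with the degrees made visible

The soundness of `CfsgLib.Small.Check.sel`, telling the predicate that the degrees in a list are
degrees of irreducible characters.
-/

set_option autoImplicit false

namespace CfsgLib.MTwelveGraph

open CfsgLib.Characters CfsgLib.Small CfsgLib.Small.Degree CfsgLib.Small.Check
open scoped ComplexConjugate

universe u

variable {G : Type u} [Group G] [Finite G] {p : ℕ} [Fact p.Prime]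

set_option maxHeartbeats 1600000 in
/-- **Soundness.** A predicate which holds of every list carrying values at all involutions makes
the search succeed. -/
theorem sel_eq_true_deg [IsSimpleGroup G] (hG : ¬ IsMulCommutative G) (P : Subgroup G)
    (hP : Nat.card P = p) (hC : Subgroup.centralizer (P : Set G) = P) (e k B : ℕ)
    (he : Nat.card (Subgroup.normalizer (P : Set G)) = p * e) (hk : k * e = p - 1) (hp2 : p ≠ 2)
    (hB : Nat.card G < B * B) (pred : List Item → Bool)
    (hpred : ∀ items : List Item,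
      (∀ x ∈ items, ∃ χ : Cfsg.IrrCharacter G, (χ : G → ℂ) 1 = x.2.2) →
      (∀ t : G, orderOf t = 2 → ∀ δ : Bool,
        (δ = true ↔ ∃ u : G, u ∈ Subgroup.normalizer (P : Set G) ∧ IsConj t u) →
        valOK p (Nat.card G) (Nat.card (Subgroup.centralizer ({t} : Set G))) δ items = true) →
      pred items = true) :
    sel p e k (Nat.card G) B pred = true := by
  classical
  haveI := Fintype.ofFinite G
  have hp := (Fact.out : p.Prime)
  set GN := Nat.card G with hGN
  have hk1 : 1 ≤ k := by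
    rcases Nat.eq_zero_or_pos k with rfl | h
    · rw [zero_mul] at hk; have := hp.two_le; omega
    · exact h
  obtain ⟨b, dg, X, χ₀, σ, β, d, hσ, hXc, hχX, hb0, hone, hall, hnorm, hdeg, hvan, hsumP⟩ :=
    exists_data hG P hP hC e k he hk hk1
  obtain ⟨ψ, hψ⟩ : X.Nonempty := Finset.card_pos.1 (by omega)
  have hψ0 : ψ ≠ χ₀ := fun h => hχX (h ▸ hψ)
  have hd0 : dg χ₀ = 1 := by
    have h := (hall χ₀).1
    rw [hone] at h
    exact_mod_cast h.symm
  have hXψ : ∀ φ ∈ X, b φ = β ∧ dg φ = d := fun φ hφ =>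
    ⟨((hall φ).2.2.2.2 hφ).1, ((hall φ).2.2.2.2 hφ).2.1⟩
  -- the values at the involutions
  have hvex : ∀ (χ : Cfsg.IrrCharacter G) (t : G), ∃ v : ℤ, orderOf t = 2 → (χ : G → ℂ) t = v ∧
      (χ ≠ χ₀ → (dg χ : ℤ) % 4 = v % 4 ∧
        (dg χ : ℤ) ∣ ((Subgroup.centralizer ({t} : Set G)).index : ℤ) * v ∧
        -(dg χ : ℤ) < v ∧ v < dg χ) := by
    intro χ t
    by_cases ht : orderOf t = 2
    · by_cases hχ : χ = χ₀
      · exact ⟨1, fun _ => ⟨by rw [hχ, hone, Int.cast_one], fun h => absurd hχ h⟩⟩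
      · obtain ⟨v, hv, hv'⟩ := exists_value hG χ (hall χ).1 ((hall χ).2.2.1 hχ) ht
        exact ⟨v, fun _ => ⟨hv, fun _ => hv'⟩⟩
    · exact ⟨0, fun h => absurd h ht⟩
  choose v hv using hvex
  -- the coefficient of the exceptional representative
  set S := ((Finset.univ \ X).erase χ₀).filter fun χ => b χ ≠ 0
  have hSmem : ∀ χ ∈ S, b χ ≠ 0 ∧ χ ≠ χ₀ ∧ χ ∉ X := fun χ h => by
    obtain ⟨h1, h2⟩ := Finset.mem_filter.1 h
    exact ⟨h2, (Finset.mem_erase.1 h1).1, (Finset.mem_sdiff.1 (Finset.mem_erase.1 h1).2).2⟩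
  have hχd : χ₀ ∈ Finset.univ \ X := Finset.mem_sdiff.2 ⟨Finset.mem_univ _, hχX⟩
  have split : ∀ {R : Type} [CommRing R] (F : Cfsg.IrrCharacter G → R) (w : R),
      (∀ φ ∈ X, F φ = w) → (∀ χ, b χ = 0 → F χ = 0) →
      ∑ χ, F χ = F χ₀ + ∑ χ ∈ S, F χ + (k : R) * w := by
    intro R _ F w hF hF0
    rw [← Finset.sum_sdiff (Finset.subset_univ X), ← Finset.add_sum_erase _ _ hχd,
      Finset.sum_congr rfl hF, Finset.sum_const, hXc, nsmul_eq_mul,
      ← Finset.sum_filter_add_sum_filter_not ((Finset.univ \ X).erase χ₀) (fun χ => b χ ≠ 0),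
      Finset.sum_eq_zero (s := ((Finset.univ \ X).erase χ₀).filter fun χ => ¬ b χ ≠ 0)
        (fun χ h => hF0 χ (not_not.1 (Finset.mem_filter.1 h).2)), add_zero]
  have lower : ∀ (F : Cfsg.IrrCharacter G → ℤ) (w : ℤ), (∀ φ ∈ X, F φ = w) → (∀ χ, 0 ≤ F χ) →
      F χ₀ + ∑ χ ∈ S, F χ + (k : ℤ) * w ≤ ∑ χ, F χ := by
    intro F w hF hF0
    rw [← Finset.sum_sdiff (Finset.subset_univ X), ← Finset.add_sum_erase _ _ hχd,
      Finset.sum_congr rfl hF, Finset.sum_const, hXc, nsmul_eq_mul]
    gcongr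
    · intro χ _ _; exact hF0 χ
    · exact Finset.filter_subset _ _
  -- the relations at an involution
  have hrel : ∀ t : G, orderOf t = 2 →
      (∀ φ ∈ X, v φ t = v ψ t) ∧ ∑ χ, b χ * v χ t + σ * v ψ t = 0 := by
    intro t ht
    have htP : ∀ g : G, g * t * g⁻¹ ∉ P := by
      intro g hg
      have h1 : g * t * g⁻¹ ≠ 1 := fun h => by
        rw [conj_eq_one_iff.1 h, orderOf_one] at ht; omega
      have := orderOf_eq_of_mem_prime hP hg h1
      rw [orderOf_conj_eq, ht] at this
      exact hp2 this.symm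
    have h : ∀ φ ∈ X, ∑ χ, b χ * v χ t + σ * v φ t = 0 := by
      intro φ hφ
      have h := hvan t htP φ hφ
      simp only [fun χ => (hv χ t ht).1] at h
      exact_mod_cast h
    refine ⟨fun φ hφ => ?_, h ψ hψ⟩
    have h1 := h φ hφ
    have h2 := h ψ hψ
    rcases hσ with rfl | rfl <;> linarith
  have hclass : ∀ t : G, orderOf t = 2 → ∀ δ : Bool,
      (δ = true ↔ ∃ u : G, u ∈ Subgroup.normalizer (P : Set G) ∧ IsConj t u) →
      ∑ χ, b χ * (v χ t * v χ t) * ((GN / dg χ : ℕ) : ℤ) + σ * (v ψ t * v ψ t) * ((GN / d : ℕ) : ℤ)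
        = if δ = true then ((p * Nat.card (Subgroup.centralizer ({t} : Set G))
            * Nat.card (Subgroup.centralizer ({t} : Set G)) : ℕ) : ℤ) else 0 := by
    intro t ht δ hδ
    have hvt := fun χ => (hv χ t ht).1
    have key := ClassPairs.card_pairs t t (Finset.univ.filter fun g => g ∈ P ∧ g ≠ 1)
    rw [card_pairs_eq hP hC hp2 ht _ (fun g => by simp), Finset.mul_sum] at key
    simp only [hsumP, hvt, fun χ => (hall χ).1] at key
    have hk'' : ((p : ℂ) - 1) = (k : ℂ) * (e : ℂ) := by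
      have : 1 ≤ p := hp.one_le
      rw [show ((p : ℂ) - 1) = ((p - 1 : ℕ) : ℂ) by push_cast [Nat.cast_sub this]; ring, ← hk]
      push_cast; ring
    have hterm : ∀ χ : Cfsg.IrrCharacter G,
        (Nat.card G : ℂ) *
          ((((((p : ℤ) - 1) * b χ + if χ ∈ X then σ * (e : ℤ) else 0) : ℤ) : ℂ)
            * ((v χ t : ℂ) * (v χ t : ℂ) / (dg χ : ℂ)))
        = ((p : ℂ) - 1) * ((b χ * (v χ t * v χ t) * ((GN / dg χ : ℕ) : ℤ) : ℤ) : ℂ)
          + if χ ∈ X then (e : ℂ) * ((σ * (v ψ t * v ψ t) * ((GN / d : ℕ) : ℤ) : ℤ) : ℂ) else 0 := by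
      intro χ
      have hne : (dg χ : ℂ) ≠ 0 := Nat.cast_ne_zero.2 fun h => by
        have := (hall χ).2.1
        rw [h, zero_dvd_iff] at this
        exact Nat.card_pos.ne' this
      have hcast : ((GN / dg χ : ℕ) : ℂ) = (Nat.card G : ℂ) / (dg χ : ℂ) := by
        rw [Nat.cast_div (hall χ).2.1 hne]
      by_cases hχ : χ ∈ X
      · rw [(hXψ χ hχ).2] at hcast ⊢
        simp only [if_pos hχ, (hrel t ht).1 χ hχ, Int.cast_mul, Int.cast_add, Int.cast_sub,
          Int.cast_natCast, Int.cast_one]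
        rw [hcast]; ring
      · simp only [if_neg hχ, Int.cast_mul, Int.cast_add, Int.cast_sub, Int.cast_natCast, Int.cast_one,
          Int.cast_zero]
        rw [hcast]; ring
    rw [Finset.sum_congr rfl fun χ _ => hterm χ, Finset.sum_add_distrib, ← Finset.mul_sum,
      Finset.sum_ite_mem, Finset.univ_inter, Finset.sum_const, hXc, nsmul_eq_mul, ← mul_assoc,
      ← hk'', ← mul_add] at key
    have hp1 : (p : ℂ) - 1 ≠ 0 := by
      rw [sub_ne_zero]
      exact_mod_cast hp.one_lt.ne'
    have hC' : ∀ c : ℂ, ((p : ℂ) - 1) * p * c ^ 2 = ((p : ℂ) - 1) * (p * c * c) := fun c => by ring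
    split_ifs at key with h
    · rw [if_pos (hδ.2 h)]
      rw [hC'] at key
      have := mul_left_cancel₀ hp1 key
      rw [← Int.cast_inj (α := ℂ)]
      push_cast at this ⊢
      exact this.symm
    · rw [if_neg (fun h' => h (hδ.1 h'))]
      have h0 := (mul_eq_zero.1 key.symm).resolve_left hp1
      rw [← Int.cast_inj (α := ℂ)]
      push_cast at h0 ⊢
      exact h0
  have hsq : ∑ χ, ((dg χ : ℤ)) ^ 2 = (GN : ℤ) := by
    have h := sum_degree_sq (G := G)
    simp only [fun χ => (hall χ).1] at h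
    exact_mod_cast h
  have hcol : ∀ t : G, orderOf t = 2 →
      ∑ χ, v χ t * v χ t = (Nat.card (Subgroup.centralizer ({t} : Set G)) : ℤ) := by
    intro t ht
    have h := sum_irr_mul_conj_of_isConj (IsConj.refl t)
    simp only [fun χ => (hv χ t ht).1, map_intCast] at h
    exact_mod_cast h
  have hidx : ∀ t : G, ((Subgroup.centralizer ({t} : Set G)).index : ℤ)
      = ((GN / Nat.card (Subgroup.centralizer ({t} : Set G)) : ℕ) : ℤ) := fun t => by
    rw [hGN, ← Subgroup.index_mul_card (Subgroup.centralizer ({t} : Set G)),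
      Nat.mul_div_cancel _ Nat.card_pos]
  have hdB : ∀ χ : Cfsg.IrrCharacter G, χ ≠ χ₀ → dg χ ∈ degrees GN B := by
    intro χ hχ
    refine mem_degrees.2 ⟨?_, (hall χ).2.2.1 hχ, (hall χ).2.1⟩
    have h1 : ((dg χ : ℤ)) ^ 2 ≤ (GN : ℤ) :=
      hsq ▸ Finset.single_le_sum (fun i _ => sq_nonneg ((dg i : ℤ))) (Finset.mem_univ χ)
    by_contra hle
    push Not at hle
    have h2 : B * B ≤ dg χ * dg χ := Nat.mul_le_mul hle hle
    have h3 : ((GN : ℤ)) < ((B * B : ℕ) : ℤ) := by exact_mod_cast hB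
    push_cast at h3
    have h4 : ((B * B : ℕ) : ℤ) ≤ ((dg χ * dg χ : ℕ) : ℤ) := by exact_mod_cast h2
    push_cast at h4
    linarith [sq ((dg χ : ℤ))]
  -- the sums, read on lists
  have toList : ∀ {R : Type} [AddCommMonoid R] (T : Finset (Cfsg.IrrCharacter G))
      (l : List (Cfsg.IrrCharacter G)), l.Perm T.toList → ∀ F : Cfsg.IrrCharacter G → R,
      (l.map F).sum = ∑ χ ∈ T, F χ := fun T l hl F => by
    rw [(hl.map F).sum_eq, Finset.sum_map_toList]
  have sumN := split (fun χ => b χ * b χ) (β * β)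
    (fun φ hφ => by simp only [(hXψ φ hφ).1]) (fun χ h => by simp only [h, mul_zero])
  have sumD := split (fun χ => b χ * (dg χ : ℤ)) (β * (d : ℤ))
    (fun φ hφ => by simp only [(hXψ φ hφ).1, (hXψ φ hφ).2]) (fun χ h => by simp only [h, zero_mul])
  have sumQ := lower (fun χ => (dg χ : ℤ) ^ 2) ((d : ℤ) ^ 2)
    (fun φ hφ => by simp only [(hXψ φ hφ).2]) (fun χ => sq_nonneg _)
  rw [hnorm, hb0] at sumN
  rw [sumD, hb0, hd0] at hdeg
  rw [hsq, hd0] at sumQ
  push_cast at hdeg sumQ
  have sumA : ∀ t : G, orderOf t = 2 →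
      1 + ∑ χ ∈ S, b χ * v χ t + ((k : ℤ) * β + σ) * v ψ t = 0 := by
    intro t ht
    have h := split (fun χ => b χ * v χ t) (β * v ψ t)
      (fun φ hφ => by simp only [(hXψ φ hφ).1, (hrel t ht).1 φ hφ]) (fun χ h => by simp only [h, zero_mul])
    have h' := (hrel t ht).2
    have hv1 : v χ₀ t = 1 := by
      have h1 := (hv χ₀ t ht).1
      rw [hone] at h1
      exact_mod_cast h1.symm
    rw [h, hb0, hv1] at h'
    linarith
  have sumR : ∀ t : G, orderOf t = 2 → ∀ δ : Bool,
      (δ = true ↔ ∃ u : G, u ∈ Subgroup.normalizer (P : Set G) ∧ IsConj t u) →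
      (GN : ℤ) + ∑ χ ∈ S, b χ * (v χ t * v χ t) * ((GN / dg χ : ℕ) : ℤ)
        + ((k : ℤ) * β + σ) * (v ψ t * v ψ t) * ((GN / d : ℕ) : ℤ)
        = if δ = true then ((p * Nat.card (Subgroup.centralizer ({t} : Set G))
            * Nat.card (Subgroup.centralizer ({t} : Set G)) : ℕ) : ℤ) else 0 := by
    intro t ht δ hδ
    have h := split (fun χ => b χ * (v χ t * v χ t) * ((GN / dg χ : ℕ) : ℤ))
      (β * (v ψ t * v ψ t) * ((GN / d : ℕ) : ℤ))
      (fun φ hφ => by simp only [(hXψ φ hφ).1, (hXψ φ hφ).2, (hrel t ht).1 φ hφ])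
      (fun χ h => by simp only [h, zero_mul])
    have hv1 : v χ₀ t = 1 := by
      have h1 := (hv χ₀ t ht).1
      rw [hone] at h1
      exact_mod_cast h1.symm
    rw [← hclass t ht δ hδ, h, hb0, hv1, hd0, Nat.div_one]
    ring
  have sumC : ∀ t : G, orderOf t = 2 →
      1 + ∑ χ ∈ S, v χ t * v χ t + (k : ℤ) * (v ψ t * v ψ t)
        ≤ (Nat.card (Subgroup.centralizer ({t} : Set G)) : ℤ) := by
    intro t ht
    have h := lower (fun χ => v χ t * v χ t) (v ψ t * v ψ t)
      (fun φ hφ => by simp only [(hrel t ht).1 φ hφ]) (fun χ => mul_self_nonneg _)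
    have hv1 : v χ₀ t = 1 := by
      have h1 := (hv χ₀ t ht).1
      rw [hone] at h1
      exact_mod_cast h1.symm
    rw [hcol t ht, hv1] at h
    linarith
  have hGN1 : ((GN - 1 : ℕ) : ℤ) = (GN : ℤ) - 1 := by
    have : 0 < GN := Nat.card_pos
    omega
  unfold sel
  by_cases hk' : k ≤ 1
  · obtain rfl : k = 1 := by omega
    rw [if_pos hk']
    set co : Cfsg.IrrCharacter G → ℤ := fun χ => b χ + if χ = ψ then σ else 0 with hco
    set T := if β + σ = 0 then S else insert ψ S with hT
    have hψS : ψ ∉ S := fun h => (hSmem ψ h).2.2 hψ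
    have hsumT : ∀ {R : Type} [CommRing R] (F : Cfsg.IrrCharacter G → R),
        (β + σ = 0 → F ψ = 0) → ∑ χ ∈ T, F χ = ∑ χ ∈ S, F χ + F ψ := by
      intro R _ F hF
      rw [hT]
      split_ifs with h
      · rw [hF h, add_zero]
      · rw [Finset.sum_insert hψS, add_comm]
    have hTmem : ∀ χ ∈ T, co χ ≠ 0 ∧ χ ≠ χ₀ ∧ (p : ℤ) ∣ (dg χ : ℤ) - co χ := by
      intro χ hχ
      by_cases hχψ : χ = ψ
      · subst hχψ
        simp only [hco, if_true, (hXψ χ hψ).1]
        rw [hT] at hχ
        split_ifs at hχ with h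
        · exact absurd hχ hψS
        · refine ⟨h, hψ0, ?_⟩
          have h1 := ((hall χ).2.2.2.2 hψ).2.2
          have he1 : (e : ℤ) = (p : ℤ) - 1 := by
            have : 1 ≤ p := hp.one_le
            rw [show ((p : ℤ) - 1) = ((p - 1 : ℕ) : ℤ) by omega, ← hk, one_mul]
          have h2 : (dg χ : ℤ) - (β + σ) = ((dg χ : ℤ) - (β - σ * e)) - σ * (p : ℤ) := by
            rw [he1]; ring
          rw [h2]
          exact dvd_sub h1 (Dvd.intro_left _ rfl)
      · have hS' : χ ∈ S := by
          rw [hT] at hχ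
          split_ifs at hχ with h
          · exact hχ
          · exact (Finset.mem_insert.1 hχ).resolve_left hχψ
        obtain ⟨h1, h2, h3⟩ := hSmem χ hS'
        simp only [hco, if_neg hχψ, add_zero]
        exact ⟨h1, h2, (hall χ).2.2.2.1 h3⟩
    have hcoS : ∀ χ ∈ S, co χ = b χ := fun χ h => by
      have : χ ≠ ψ := fun hh => hψS (hh ▸ h)
      simp [hco, this]
    have hcoψ : co ψ = β + σ := by simp [hco, (hXψ ψ hψ).1]
    have eN : ∑ χ ∈ T, co χ * co χ = (e : ℤ) := by
      rw [hsumT (fun χ => co χ * co χ) (fun h => by simp only [hcoψ, h, mul_zero]), hcoψ,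
        Finset.sum_congr rfl fun χ h => by rw [hcoS χ h]]
      have hσσ : σ * σ = 1 := by rcases hσ with rfl | rfl <;> norm_num
      push_cast at sumN
      linear_combination -sumN + hσσ
    refine selRec_sound pred (fun χ => (co χ, dg χ)) _ T.toList _ _ _ _ ?_ ?_ ?_ ?_ ?_ ?_
    · intro χ hχ
      rw [Finset.mem_toList] at hχ
      obtain ⟨h1, h2, h3⟩ := hTmem χ hχ
      refine mem_cands (hdB χ h2) h1 ?_ h3
      rw [← eN]
      exact Finset.single_le_sum (fun i _ => mul_self_nonneg (co i)) hχ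
    · exact fun χ hχ => (hTmem χ (Finset.mem_toList.1 hχ)).1
    · have h : (((T.toList.map fun χ => (co χ * co χ).natAbs).sum : ℕ) : ℤ) = (e : ℤ) := by
        rw [Finset.sum_map_toList, ← eN]
        push_cast
        exact Finset.sum_congr rfl fun χ _ => abs_of_nonneg (mul_self_nonneg _)
      exact_mod_cast h
    · rw [Finset.sum_map_toList,
        hsumT (fun χ => co χ * (dg χ : ℤ)) (fun h => by simp only [hcoψ, h, zero_mul]), hcoψ,
        (hXψ ψ hψ).2, Finset.sum_congr rfl fun χ h => by rw [hcoS χ h]]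
      push_cast at hdeg
      linarith
    · have h : (((T.toList.map fun χ => dg χ * dg χ).sum : ℕ) : ℤ) ≤ ((GN - 1 : ℕ) : ℤ) := by
        rw [Finset.sum_map_toList]
        rw [hGN1]; push_cast
        have hsub : ∑ χ ∈ T, (dg χ : ℤ) * dg χ ≤ ∑ χ ∈ S, (dg χ : ℤ) * dg χ + (d : ℤ) * d := by
          rw [hT]
          split_ifs
          · linarith [mul_self_nonneg (d : ℤ)]
          · rw [Finset.sum_insert hψS, (hXψ ψ hψ).2]; linarith
        simp only [sq] at sumQ
        push_cast at sumQ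
        linarith
      exact_mod_cast h
    · intro l' hl'
      rw [List.append_nil]
      refine hpred _ (fun x hx => ?_) fun t ht δ hδ => ?_
      · obtain ⟨χ, -, rfl⟩ := List.mem_map.1 hx
        exact ⟨χ, (hall χ).1⟩
      unfold valOK
      refine valRec_sound _ _ _ (fun χ => ((co χ, 1, dg χ) : Item)) (fun χ => v χ t) l' _ _ _ ?_ ?_ ?_ ?_
      · intro χ hχ
        obtain ⟨-, h2, -⟩ := hTmem χ (Finset.mem_toList.1 (hl'.subset hχ))
        obtain ⟨h3, h4, h5⟩ := (hv χ t ht).2 h2
        exact ⟨h3, hidx t ▸ h4, h5⟩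
      · rw [toList T l' hl',
          hsumT (fun χ => co χ * v χ t) (fun h => by simp only [hcoψ, h, zero_mul]), hcoψ,
          Finset.sum_congr rfl fun χ h => by rw [hcoS χ h]]
        have := sumA t ht
        push_cast at this
        linarith
      · rw [toList T l' hl',
          hsumT (fun χ => co χ * (v χ t * v χ t) * ((GN / dg χ : ℕ) : ℤ))
            (fun h => by simp only [hcoψ, h, zero_mul]), hcoψ, (hXψ ψ hψ).2,
          Finset.sum_congr rfl fun χ h => by rw [hcoS χ h]]
        have := sumR t ht δ hδ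
        push_cast at this ⊢
        linarith
      · rw [toList T l' hl']
        simp only [Nat.cast_one, one_mul]
        have := sumC t ht
        push_cast at this
        have hsub : ∑ χ ∈ T, v χ t * v χ t ≤ ∑ χ ∈ S, v χ t * v χ t + v ψ t * v ψ t := by
          rw [hT]
          split_ifs
          · linarith [mul_self_nonneg (v ψ t)]
          · rw [Finset.sum_insert hψS]; linarith
        linarith
  · rw [if_neg hk', List.any_eq_true]
    have hσσ : σ * σ = 1 := by rcases hσ with rfl | rfl <;> norm_num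
    have hn0 : 0 ≤ (e : ℤ) - 2 * σ * β - (k : ℤ) * (β * β) - 1 := by
      have : 0 ≤ ∑ χ ∈ S, b χ * b χ := Finset.sum_nonneg fun χ _ => mul_self_nonneg _
      linarith
    have hβ : -((e : ℤ) + 2) ≤ β ∧ β ≤ (e : ℤ) + 2 := by
      have hk2 : (2 : ℤ) ≤ k := by exact_mod_cast (by omega : 2 ≤ k)
      rcases hσ with rfl | rfl <;> constructor <;>
        nlinarith [mul_self_nonneg (β - 1), mul_self_nonneg (β + 1), mul_self_nonneg β]
    have hi : (((β + ((e : ℤ) + 2)).toNat : ℕ) : ℤ) - ((e : ℤ) + 2) = β := by omega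
    refine ⟨(β + ((e : ℤ) + 2)).toNat, List.mem_range.2 (by omega), ?_⟩
    rw [List.any_eq_true]
    refine ⟨σ, by rcases hσ with rfl | rfl <;> simp, ?_⟩
    simp only [hi, Bool.and_eq_true, decide_eq_true_eq, List.any_eq_true]
    refine ⟨hn0, d, (hXψ ψ hψ).2 ▸ hdB ψ hψ0, ⟨?_, ?_⟩, ?_⟩
    · have h := ((hall ψ).2.2.2.2 hψ).2.2
      rw [(hXψ ψ hψ).2] at h
      exact Int.emod_eq_zero_of_dvd h
    · have h : ((k * (d * d) : ℕ) : ℤ) ≤ ((GN - 1 : ℕ) : ℤ) := by
        rw [hGN1]; push_cast
        have : 0 ≤ ∑ χ ∈ S, (dg χ : ℤ) ^ 2 := Finset.sum_nonneg fun χ _ => sq_nonneg _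
        simp only [sq] at sumQ this
        linarith
      exact_mod_cast h
    · set n := ((e : ℤ) - 2 * σ * β - (k : ℤ) * (β * β) - 1).toNat with hn
      have hn' : (n : ℤ) = (e : ℤ) - 2 * σ * β - (k : ℤ) * (β * β) - 1 := Int.toNat_of_nonneg hn0
      have eN : ∑ χ ∈ S, b χ * b χ = (n : ℤ) := by rw [hn']; linarith
      refine selRec_sound pred (fun χ => (b χ, dg χ)) _ S.toList _ _ _ _ ?_ ?_ ?_ ?_ ?_ ?_
      · intro χ hχ
        rw [Finset.mem_toList] at hχ
        obtain ⟨h1, h2, h3⟩ := hSmem χ hχ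
        refine mem_cands (hdB χ h2) h1 ?_ ((hall χ).2.2.2.1 h3)
        rw [← eN]
        exact Finset.single_le_sum (fun i _ => mul_self_nonneg (b i)) hχ
      · exact fun χ hχ => (hSmem χ (Finset.mem_toList.1 hχ)).1
      · have h : (((S.toList.map fun χ => (b χ * b χ).natAbs).sum : ℕ) : ℤ) = (n : ℤ) := by
          rw [Finset.sum_map_toList, ← eN]
          push_cast
          exact Finset.sum_congr rfl fun χ _ => abs_of_nonneg (mul_self_nonneg _)
        exact_mod_cast h
      · rw [Finset.sum_map_toList]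
        linarith
      · have h : (((S.toList.map fun χ => dg χ * dg χ).sum : ℕ) : ℤ)
            ≤ ((GN - 1 - k * (d * d) : ℕ) : ℤ) := by
          rw [Finset.sum_map_toList]
          simp only [sq] at sumQ
          have hle : k * (d * d) ≤ GN - 1 := by
            have h : ((k * (d * d) : ℕ) : ℤ) ≤ ((GN - 1 : ℕ) : ℤ) := by
              rw [hGN1]; push_cast
              have : 0 ≤ ∑ χ ∈ S, (dg χ : ℤ) * (dg χ : ℤ) := Finset.sum_nonneg fun χ _ => mul_self_nonneg _
              linarith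
            exact_mod_cast h
          rw [Nat.cast_sub hle, hGN1]; push_cast
          linarith
        exact_mod_cast h
      · intro l' hl'
        refine hpred _ (fun x hx => ?_) fun t ht δ hδ => ?_
        · rcases List.mem_append.1 hx with hx | hx
          · obtain ⟨χ, -, rfl⟩ := List.mem_map.1 hx
            exact ⟨χ, (hall χ).1⟩
          · rw [List.mem_singleton.1 hx]
            exact ⟨ψ, by rw [(hall ψ).1, (hXψ ψ hψ).2]⟩
        unfold valOK
        -- the exceptional representative goes last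
        have hmap : (l'.map fun χ => (((b χ), 1, dg χ) : Item)) ++ [((k : ℤ) * β + σ, k, d)]
            = (l' ++ [ψ]).map (fun χ => if χ = ψ then (((k : ℤ) * β + σ, k, d) : Item) else (b χ, 1, dg χ)) := by
          rw [List.map_append, List.map_singleton, if_pos rfl]
          congr 1
          refine List.map_congr_left fun χ hχ => ?_
          rw [if_neg]
          rintro rfl
          exact (hSmem _ (Finset.mem_toList.1 (hl'.subset hχ))).2.2 hψ
        rw [hmap]
        have hl'ne : ∀ χ ∈ l', χ ≠ ψ := fun χ hχ h =>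
          (hSmem χ (Finset.mem_toList.1 (hl'.subset hχ))).2.2 (h ▸ hψ)
        refine valRec_sound _ _ _ _ (fun χ => v χ t) _ _ _ _ ?_ ?_ ?_ ?_
        · intro χ hχ
          rcases List.mem_append.1 hχ with h | h
          · obtain ⟨h3, h4, h5⟩ := (hv χ t ht).2 (hSmem χ (Finset.mem_toList.1 (hl'.subset h))).2.1
            simp only [if_neg (hl'ne χ h)]
            exact ⟨h3, hidx t ▸ h4, h5⟩
          · obtain rfl := List.mem_singleton.1 h
            obtain ⟨h3, h4, h5⟩ := (hv χ t ht).2 hψ0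
            simp only [if_true, ← (hXψ χ hψ).2]
            exact ⟨h3, hidx t ▸ h4, h5⟩
        · simp only [List.map_append, List.sum_append, List.map_singleton, List.sum_singleton, if_true]
          rw [List.map_congr_left (g := fun χ => b χ * v χ t)
            (fun χ h => by simp only [if_neg (hl'ne χ h)]), toList S l' hl']
          linarith [sumA t ht]
        · simp only [List.map_append, List.sum_append, List.map_singleton, List.sum_singleton, if_true]
          rw [List.map_congr_left (g := fun χ => b χ * (v χ t * v χ t) * ((GN / dg χ : ℕ) : ℤ))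
            (fun χ h => by simp only [if_neg (hl'ne χ h)]), toList S l' hl']
          have := sumR t ht δ hδ
          linarith
        · simp only [List.map_append, List.sum_append, List.map_singleton, List.sum_singleton, if_true]
          rw [List.map_congr_left (g := fun χ => v χ t * v χ t)
            (fun χ h => by simp only [if_neg (hl'ne χ h), Nat.cast_one, one_mul]), toList S l' hl']
          linarith [sumC t ht]

end CfsgLib.MTwelveGraph
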