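import Cfsg.Agent.MTwelveGraph.Orders
import Cfsg.Agent.MTwelveGraph.SelDegree
import Cfsg.Agent.MTwelveGraph.DegreeTen
import Mathlib.GroupTheory.Perm.Centralizer

/-!
# The orders left by the degree test

There is no simple group of order 11880, 15840 or 47520.
-/

set_option autoImplicit false
set_option maxHeartbeats 800000
set_option maxRecDepth 100000

namespace CfsgLib.MTwelveGraph

open Cfsg CfsgLib.Small CfsgLib.Small.Check

variable {G : Type*} [Group G] [Finite G] [IsSimpleGroup G]

/-- Possible centraliser orders for an involution. -/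
def invOrders (N : ℕ) : List ℕ :=
  (List.range (N / 11 + 1)).filter fun c => c % 2 == 0 && N % c == 0 && !(c % 11 == 0)

theorem mem_invOrders (hna : ¬ IsMulCommutative G) [Fact (Nat.Prime 11)] {N : ℕ} (hN : Nat.card G = N)
    (h10 : ¬ N ∣ Nat.factorial 10) (P : Sylow 11 G) (hP : Nat.card (P : Subgroup G) = 11)
    (hC : Subgroup.centralizer ((P : Subgroup G) : Set G) = P) {t : G} (ht : orderOf t = 2) :
    Nat.card (Subgroup.centralizer ({t} : Set G)) ∈ invOrders N := by
  classical
  set M := Subgroup.centralizer ({t} : Set G)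
  have ht1 : t ≠ 1 := fun h => by rw [h, orderOf_one] at ht; norm_num at ht
  have hne : M ≠ ⊤ := Small.centralizer_singleton_ne_top hna ht1
  have hidx : 10 < M.index := Small.lt_index_of_not_dvd hna hne (b := 10) (by rw [hN]; exact fun h => h10 (dvd_trans (dvd_mul_left _ _) h))
  have hmul := M.index_mul_card
  rw [hN] at hmul
  have htM : t ∈ M := Subgroup.mem_centralizer_iff.2 fun a ha => by rw [Set.mem_singleton_iff.1 ha]
  have h2 : 2 ∣ Nat.card M := ht ▸ Subgroup.orderOf_dvd_natCard M htM
  have h11 : ¬ 11 ∣ Nat.card M := by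
    intro h
    obtain ⟨y', hy'⟩ := exists_prime_orderOf_dvd_card' 11 h
    have hyo : orderOf (y' : G) = 11 := by rw [Subgroup.orderOf_coe]; exact hy'
    obtain ⟨R, hR⟩ := (IsPGroup.of_card (n := 1) (by rw [pow_one, Nat.card_zpowers]; exact hyo) :
      IsPGroup 11 (Subgroup.zpowers (y' : G))).exists_le_sylow
    obtain ⟨g, rfl⟩ := MulAction.exists_smul_eq G P R
    have hgy : g⁻¹ * (y' : G) * g ∈ (P : Subgroup G) := by
      have h1 := hR (Subgroup.mem_zpowers (y' : G))
      rw [Sylow.coe_subgroup_smul, Subgroup.mem_pointwise_smul_iff_inv_smul_mem] at h1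
      simpa [MulAut.smul_def] using h1
    have hy1 : g⁻¹ * (y' : G) * g ≠ 1 := by
      intro h1
      have : (y' : G) = 1 := by
        have h2 := congrArg (fun a => g * a * g⁻¹) h1
        simpa [mul_assoc] using h2
      rw [this, orderOf_one] at hyo; norm_num at hyo
    have hcomm : Commute (g⁻¹ * t * g) (g⁻¹ * (y' : G) * g) := by
      have h1 : t * (y' : G) = (y' : G) * t := Subgroup.mem_centralizer_iff.1 y'.2 t rfl
      show g⁻¹ * t * g * (g⁻¹ * (y' : G) * g) = g⁻¹ * (y' : G) * g * (g⁻¹ * t * g)
      calc g⁻¹ * t * g * (g⁻¹ * (y' : G) * g) = g⁻¹ * (t * (y' : G)) * g := by group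
        _ = g⁻¹ * ((y' : G) * t) * g := by rw [h1]
        _ = _ := by group
    have hgen : Subgroup.zpowers (g⁻¹ * (y' : G) * g) = (P : Subgroup G) := by
      refine Subgroup.eq_of_le_of_card_ge (Subgroup.zpowers_le.2 hgy) ?_
      rw [hP, Nat.card_zpowers, Small.orderOf_eq_of_mem_prime hP hgy hy1]
    have hmem : g⁻¹ * t * g ∈ (P : Subgroup G) := by
      rw [← hC]
      refine Subgroup.mem_centralizer_iff.2 fun c hc => ?_
      obtain ⟨j, rfl⟩ := Subgroup.mem_zpowers_iff.1
        (show c ∈ Subgroup.zpowers (g⁻¹ * (y' : G) * g) by rw [hgen]; exact hc)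
      exact (hcomm.zpow_right j).eq.symm
    have hne1 : g⁻¹ * t * g ≠ 1 := by
      intro h1
      have h2 := congrArg (fun a => g * a * g⁻¹) h1
      exact ht1 (by simpa [mul_assoc] using h2)
    have h3 := Small.orderOf_eq_of_mem_prime hP hmem hne1
    have h4 : orderOf (g⁻¹ * t * g) = 2 := by
      have h5 := orderOf_injective (MulAut.conj g⁻¹).toMonoidHom (MulAut.conj g⁻¹).injective t
      rw [ht] at h5
      simpa [MulAut.conj_apply] using h5
    omega
  simp only [invOrders, List.mem_filter, List.mem_range, Bool.and_eq_true, Bool.not_eq_true',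
    beq_iff_eq, beq_eq_false_iff_ne]
  refine ⟨?_, ⟨Nat.mod_eq_zero_of_dvd h2, ?_⟩, fun h => h11 (Nat.dvd_of_mod_eq_zero h)⟩
  · rw [Nat.lt_succ_iff, Nat.le_div_iff_mul_le (by norm_num)]
    nlinarith
  · rw [← hmul]; exact Nat.mul_mod_left _ _

theorem check_11880 : sel 11 2 5 11880 109
    (fun it => (invOrders 11880).any fun C => valOK 11 11880 C true it) = false := by decide +kernel

theorem check_15840 : sel 11 10 1 15840 126
    (fun it => (it.all fun x => !(x.2.2 == 10)) &&
      (invOrders 15840).any fun C => valOK 11 15840 C true it) = false := by decide +kernel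

variable [Fact (Nat.Prime 11)]

omit [IsSimpleGroup G] in
theorem exists_involution (P : Subgroup G) {n : ℕ}
    (hN : Nat.card (Subgroup.normalizer (P : Set G)) = n) (h2 : 2 ∣ n) :
    ∃ t : G, orderOf t = 2 ∧ t ∈ Subgroup.normalizer (P : Set G) := by
  haveI := Fact.mk Nat.prime_two
  obtain ⟨t, ht⟩ := exists_prime_orderOf_dvd_card' (G := Subgroup.normalizer (P : Set G)) 2 (hN ▸ h2)
  exact ⟨t, by rw [Subgroup.orderOf_coe]; exact ht, t.2⟩

theorem false_11880 (hna : ¬ IsMulCommutative G) (hG : Nat.card G = 11880) (P : Sylow 11 G)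
    (hP : Nat.card (P : Subgroup G) = 11)
    (hN : Nat.card (Subgroup.normalizer ((P : Subgroup G) : Set G)) = 2 * (11 * 1))
    (hC : Nat.card (Subgroup.centralizer ((P : Subgroup G) : Set G)) = 11 * 1) : False := by
  haveI := isCyclic_of_prime_card hP
  have hCP : Subgroup.centralizer ((P : Subgroup G) : Set G) = P :=
    (Subgroup.eq_of_le_of_card_ge (Subgroup.le_centralizer (P : Subgroup G))
      (by rw [hP, hC])).symm
  obtain ⟨t, ht, htN⟩ := exists_involution (P : Subgroup G) hN (by norm_num)
  exact Check.false_of_check hna hG (P : Subgroup G) hP hCP 2 5 109 (by rw [hN]) (by norm_num)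
    (by norm_num) (by norm_num) ht ⟨t, htN, IsConj.refl t⟩ (invOrders 11880)
    (mem_invOrders hna hG (by decide) P hP hCP ht) check_11880

theorem false_15840 (hna : ¬ IsMulCommutative G) (hG : Nat.card G = 15840) (P : Sylow 11 G)
    (hP : Nat.card (P : Subgroup G) = 11)
    (hN : Nat.card (Subgroup.normalizer ((P : Subgroup G) : Set G)) = 10 * (11 * 1))
    (hC : Nat.card (Subgroup.centralizer ((P : Subgroup G) : Set G)) = 11 * 1) : False := by
  haveI := isCyclic_of_prime_card hP
  have hCP : Subgroup.centralizer ((P : Subgroup G) : Set G) = P :=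
    (Subgroup.eq_of_le_of_card_ge (Subgroup.le_centralizer (P : Subgroup G))
      (by rw [hP, hC])).symm
  obtain ⟨t, ht, htN⟩ := exists_involution (P : Subgroup G) hN (by norm_num)
  have hN' : Nat.card (Subgroup.normalizer ((P : Subgroup G) : Set G)) = 11 * 10 := by rw [hN]
  have hno := no_degree_ten hna (P : Subgroup G) hP hCP hN'
  have h := sel_eq_true_deg (G := G) hna (P : Subgroup G) hP hCP 10 1 126 hN' (by norm_num) (by norm_num)
    (by rw [hG]; norm_num)
    (fun it => (it.all fun x => !(x.2.2 == 10)) &&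
      (invOrders 15840).any fun C => valOK 11 15840 C true it)
    (fun items hdeg hitems => by
      rw [Bool.and_eq_true]
      refine ⟨List.all_eq_true.2 fun x hx => ?_, List.any_eq_true.2
        ⟨_, mem_invOrders hna hG (by decide) P hP hCP ht, ?_⟩⟩
      · obtain ⟨χ, hχ⟩ := hdeg x hx
        simp only [Bool.not_eq_true', beq_eq_false_iff_ne]
        intro h10
        exact hno χ (by rw [hχ, h10])
      · have := hitems t ht true ⟨fun _ => ⟨t, htN, IsConj.refl t⟩, fun _ => rfl⟩
        rwa [hG] at this)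
  rw [hG, check_15840] at h
  exact Bool.false_ne_true h

/-- An action on at most twelve points leaves the centraliser of `P` of order eleven. -/
theorem card_centralizer_le_of_index_le (hna : ¬ IsMulCommutative G) (P : Sylow 11 G)
    (hP : Nat.card (P : Subgroup G) = 11) {H : Subgroup G} (hH : H ≠ ⊤) (hi : H.index ≤ 12) :
    Nat.card (Subgroup.centralizer ((P : Subgroup G) : Set G)) ≤ 11 := by
  classical
  haveI := Fintype.ofFinite (G ⧸ H)
  set f : G →* Equiv.Perm (G ⧸ H) := MulAction.toPermHom G (G ⧸ H)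
  have hinj : Function.Injective f := by
    rw [← MonoidHom.ker_eq_bot_iff]
    refine (MonoidHom.normal_ker f).eq_bot_or_eq_top.resolve_right fun htop => hH ?_
    refine top_le_iff.1 fun g _ => ?_
    have h1 := congrArg (fun σ : Equiv.Perm (G ⧸ H) => σ ((1 : G) : G ⧸ H))
      (MonoidHom.mem_ker.1 (htop ▸ Subgroup.mem_top g : g ∈ f.ker))
    simpa [f, QuotientGroup.eq] using h1
  obtain ⟨y, hy, hy1⟩ : ∃ y ∈ (P : Subgroup G), y ≠ 1 := by
    by_contra h
    push Not at h
    rw [(Subgroup.eq_bot_iff_forall _).2 h, Subgroup.card_bot] at hP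
    norm_num at hP
  have hord : orderOf (f y) = 11 := by
    rw [orderOf_injective f hinj, Small.orderOf_eq_of_mem_prime hP hy hy1]
  obtain ⟨n, hn⟩ := Equiv.Perm.cycleType_prime_order (by rw [hord]; norm_num)
  have hsum := (f y).sum_cycleType
  have hsupp := (f y).support.card_le_univ
  have hcard : Fintype.card (G ⧸ H) ≤ 12 := by
    rw [← Nat.card_eq_fintype_card]; exact hi
  rw [hn, Multiset.sum_replicate, hord, smul_eq_mul] at hsum
  have hn0 : n = 0 := by omega
  subst hn0
  have hct : (f y).cycleType = {11} := by rw [hn, hord]; rfl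
  have hcent : Nat.card (Subgroup.centralizer ({f y} : Set (Equiv.Perm (G ⧸ H)))) ≤ 11 := by
    rw [Equiv.Perm.nat_card_centralizer, hct]
    simp
    have : Fintype.card (G ⧸ H) - 11 ≤ 1 := by omega
    interval_cases h : Fintype.card (G ⧸ H) - 11 <;> simp
  refine le_trans ?_ hcent
  refine Nat.card_le_card_of_injective (fun a => (⟨f a.1, Subgroup.mem_centralizer_iff.2 fun b hb => by
    rw [Set.mem_singleton_iff.1 hb, ← map_mul, ← map_mul, Subgroup.mem_centralizer_iff.1 a.2 y hy]⟩ :
      Subgroup.centralizer ({f y} : Set (Equiv.Perm (G ⧸ H))))) ?_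
  intro a b h
  exact Subtype.ext (hinj (congrArg Subtype.val h))

theorem false_47520 (hna : ¬ IsMulCommutative G) (hG : Nat.card G = 47520) (P : Sylow 11 G)
    (hP : Nat.card (P : Subgroup G) = 11) {c : ℕ} (hc : c = 3 ∨ c = 6)
    (hN : Nat.card (Subgroup.normalizer ((P : Subgroup G) : Set G)) = 330)
    (hC : Nat.card (Subgroup.centralizer ((P : Subgroup G) : Set G)) = 11 * c) : False := by
  classical
  haveI := Fact.mk Nat.prime_three
  haveI := isCyclic_of_prime_card hP
  set C := Subgroup.centralizer ((P : Subgroup G) : Set G) with hCdef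
  set N := Subgroup.normalizer ((P : Subgroup G) : Set G) with hNdef
  have hPC : (P : Subgroup G) ≤ C := Subgroup.le_centralizer (P : Subgroup G)
  have hidx : ∀ H : Subgroup G, H ≠ ⊤ → 12 < H.index := fun H hH => by
    by_contra h
    have h1 := card_centralizer_le_of_index_le hna P hP hH (not_lt.1 h)
    rw [hC] at h1
    omega
  have hcardC : Nat.card C = 3 * (11 * (c / 3)) := by rw [hC]; omega
  obtain ⟨x', hx'⟩ := exists_prime_orderOf_dvd_card' (G := C) 3 (hcardC ▸ dvd_mul_right _ _)
  set x : G := (x' : G) with hxdef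
  have hx : orderOf x = 3 := by rw [hxdef, Subgroup.orderOf_coe]; exact hx'
  have hx1 : x ≠ 1 := fun h => by rw [h, orderOf_one] at hx; norm_num at hx
  set M := Subgroup.centralizer ({x} : Set G) with hMdef
  have hMne : M ≠ ⊤ := Small.centralizer_singleton_ne_top hna hx1
  have hxP : ∀ a ∈ (P : Subgroup G), a * x = x * a := fun a ha => Subgroup.mem_centralizer_iff.1 x'.2 a ha
  have hPM : (P : Subgroup G) ≤ M := fun a ha => Subgroup.mem_centralizer_iff.2 fun b hb => by
    rw [Set.mem_singleton_iff.1 hb]; exact (hxP a ha).symm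
  -- nine divides the centraliser of `x`
  have h9 : 9 ∣ Nat.card M := by
    obtain ⟨T, hT⟩ := (IsPGroup.of_card (n := 1) (by rw [pow_one, Nat.card_zpowers]; exact hx) :
      IsPGroup 3 (Subgroup.zpowers x)).exists_le_sylow
    have hTc : Nat.card (T : Subgroup G) = 27 := by
      rw [Small.card_sylow_eq (p := 3) (k := 3) (m := 1760) (by rw [hG]; norm_num) (by norm_num) T]
      norm_num
    have hTp : IsPGroup 3 (T : Subgroup G) := T.2
    haveI : Nontrivial (T : Subgroup G) := Finite.one_lt_card_iff_nontrivial.1 (by rw [hTc]; norm_num)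
    haveI := hTp.center_nontrivial
    set Z : Subgroup G := (Subgroup.center (T : Subgroup G)).map (T : Subgroup G).subtype
    have hxT : x ∈ (T : Subgroup G) := hT (Subgroup.mem_zpowers x)
    have hZc : ∀ z ∈ Z, z * x = x * z := by
      rintro z ⟨z', hz', rfl⟩
      exact congrArg Subtype.val ((Subgroup.mem_center_iff.1 hz' ⟨x, hxT⟩).symm)
    have hZ3 : 3 ∣ Nat.card Z := by
      rw [Subgroup.card_subtype]
      obtain ⟨m, hm0, hm⟩ := (hTp.to_subgroup (Subgroup.center _)).nontrivial_iff_card.1 inferInstance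
      exact hm ▸ dvd_pow_self 3 hm0.ne'
    by_cases hxZ : x ∈ Z
    · have hTM : (T : Subgroup G) ≤ M := fun a ha => Subgroup.mem_centralizer_iff.2 fun b hb => by
        obtain ⟨z', hz', hzx⟩ := hxZ
        rw [Set.mem_singleton_iff.1 hb, ← hzx]
        exact congrArg Subtype.val ((Subgroup.mem_center_iff.1 hz' ⟨a, ha⟩).symm)
      exact Dvd.dvd.trans (by rw [hTc]; norm_num) (Subgroup.card_dvd_of_le hTM)
    · have hJ : Z ⊔ Subgroup.zpowers x ≤ M := sup_le
        (fun z hz => Subgroup.mem_centralizer_iff.2 fun b hb => by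
          rw [Set.mem_singleton_iff.1 hb]; exact (hZc z hz).symm)
        (Subgroup.zpowers_le.2 (Subgroup.mem_centralizer_iff.2 fun b hb => by
          rw [Set.mem_singleton_iff.1 hb]))
      have hlt : Z < Z ⊔ Subgroup.zpowers x := lt_of_le_of_ne le_sup_left fun h =>
        hxZ (h ▸ le_sup_right (α := Subgroup G) (Subgroup.mem_zpowers x))
      have hJT : Z ⊔ Subgroup.zpowers x ≤ (T : Subgroup G) := sup_le (Subgroup.map_subtype_le _) hT
      obtain ⟨j, hj⟩ := (hTp.to_le hJT).exists_card_eq
      obtain ⟨i, hi⟩ := (hTp.to_le (Subgroup.map_subtype_le (Subgroup.center (T : Subgroup G)))).exists_card_eq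
      have h1 : 1 ≤ i := by
        by_contra h0
        have : i = 0 := by omega
        rw [this] at hi
        rw [hi] at hZ3
        norm_num at hZ3
      have h2 : Nat.card Z < Nat.card ↥(Z ⊔ Subgroup.zpowers x) := by
        refine lt_of_le_of_ne (Subgroup.card_le_of_le le_sup_left) fun h => hlt.ne ?_
        exact Subgroup.eq_of_le_of_card_ge le_sup_left h.ge
      rw [hi, hj] at h2
      have hij : i < j := (Nat.pow_lt_pow_iff_right (by norm_num)).1 h2
      exact Dvd.dvd.trans (show 9 ∣ 3 ^ j from (show 9 = 3 ^ 2 by norm_num) ▸ pow_dvd_pow 3 (by omega))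
        (hj ▸ Subgroup.card_dvd_of_le hJ)
  -- elements of the normaliser of `P` centralise or invert `x`
  have huniq : ∀ a ∈ C, orderOf a = 3 → a ∈ Subgroup.zpowers x := by
    intro a ha ha3
    obtain ⟨R⟩ : Nonempty (Sylow 3 C) := inferInstance
    have hRc : Nat.card (R : Subgroup C) = 3 := by
      rw [Small.card_sylow_eq (p := 3) (k := 1) (m := 11 * (c / 3)) (by rw [hcardC, pow_one])
        (by rcases hc with rfl | rfl <;> norm_num) R, pow_one]
    have hPcen : ((P : Subgroup G).subgroupOf C) ≤ Subgroup.normalizer ((R : Subgroup C) : Set C) := by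
      intro b hb
      refine Subgroup.mem_normalizer_iff.2 fun d => ?_
      have hbd : b * d = d * b :=
        Subtype.ext (Subgroup.mem_centralizer_iff.1 d.2 (b : G) (Subgroup.mem_subgroupOf.1 hb))
      rw [hbd, mul_inv_cancel_right]
    have hn1 : Nat.card (Sylow 3 C) = 1 := by
      have h1 := Subgroup.card_dvd_of_le hPcen
      rw [Nat.card_congr (Subgroup.subgroupOfEquivOfLe hPC).toEquiv, hP] at h1
      have h2 := Subgroup.card_dvd_of_le (Subgroup.le_normalizer (H := (R : Subgroup C)))
      rw [hRc] at h2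
      have h33 : 33 ∣ Nat.card (Subgroup.normalizer ((R : Subgroup C) : Set C)) :=
        Nat.Coprime.mul_dvd_of_dvd_of_dvd (by norm_num : Nat.Coprime 3 11) h2 h1
      have h3 := card_sylow_mul_card_normalizer R
      rw [hcardC] at h3
      have hmod := card_sylow_modEq_one 3 C
      obtain ⟨w, hw⟩ := h33
      rw [hw] at h3
      have h6 : Nat.card (Sylow 3 C) * w = c / 3 := by nlinarith
      have hle : Nat.card (Sylow 3 C) ≤ 2 := by
        have hd : Nat.card (Sylow 3 C) ∣ c / 3 := h6 ▸ dvd_mul_right _ _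
        exact le_trans (Nat.le_of_dvd (by omega) hd) (by omega)
      have hpos : 0 < Nat.card (Sylow 3 C) := Nat.card_pos
      unfold Nat.ModEq at hmod
      omega
    haveI : Subsingleton (Sylow 3 C) := (Nat.card_eq_one_iff_unique.1 hn1).1
    have hall : ∀ b : C, orderOf b = 3 → b ∈ (R : Subgroup C) := by
      intro b hb
      obtain ⟨R', hR'⟩ := (IsPGroup.of_card (n := 1) (by rw [pow_one, Nat.card_zpowers]; exact hb) :
        IsPGroup 3 (Subgroup.zpowers b)).exists_le_sylow
      rw [Subsingleton.elim R R']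
      exact hR' (Subgroup.mem_zpowers b)
    have hgen : Subgroup.zpowers x' = (R : Subgroup C) := by
      refine Subgroup.eq_of_le_of_card_ge (Subgroup.zpowers_le.2 (hall x' hx')) ?_
      rw [hRc, Nat.card_zpowers, hx']
    have hmem := hall ⟨a, ha⟩ (by rw [← ha3, ← Subgroup.orderOf_coe])
    rw [← hgen, Subgroup.mem_zpowers_iff] at hmem
    obtain ⟨j, hj⟩ := hmem
    exact Subgroup.mem_zpowers_iff.2 ⟨j, congrArg Subtype.val hj⟩
  have hconj : ∀ g ∈ N, g * x * g⁻¹ = x ∨ g * x * g⁻¹ = x⁻¹ := by
    intro g hg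
    have hgC : g * x * g⁻¹ ∈ C := by
      refine Subgroup.mem_centralizer_iff.2 fun a ha => ?_
      have ha' : g⁻¹ * a * g ∈ (P : Subgroup G) := by
        have := (Subgroup.mem_normalizer_iff.1 (inv_mem hg) a).1 ha
        simpa using this
      calc a * (g * x * g⁻¹) = g * ((g⁻¹ * a * g) * x) * g⁻¹ := by group
        _ = g * (x * (g⁻¹ * a * g)) * g⁻¹ := by rw [hxP _ ha']
        _ = g * x * g⁻¹ * a := by group
    have ho : orderOf (g * x * g⁻¹) = 3 := by
      have h5 := orderOf_injective (MulAut.conj g).toMonoidHom (MulAut.conj g).injective x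
      rw [hx] at h5
      simpa [MulAut.conj_apply] using h5
    obtain ⟨j, hj⟩ := Subgroup.mem_zpowers_iff.1 (huniq _ hgC ho)
    have hj' : j % 3 = 0 ∨ j % 3 = 1 ∨ j % 3 = 2 := by omega
    have hx3 : x ^ j = x ^ (j % 3) := by
      rw [show (3 : ℤ) = ((orderOf x : ℕ) : ℤ) by rw [hx]; norm_num, zpow_mod_orderOf]
    rw [hx3] at hj
    rcases hj' with h | h | h <;> rw [h] at hj
    · rw [zpow_zero] at hj
      exact absurd (conj_eq_one_iff.1 hj.symm) hx1
    · left; rw [← hj, zpow_one]
    · right
      rw [← hj]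
      have h3 : x ^ 3 = 1 := hx ▸ pow_orderOf_eq_one x
      refine eq_inv_of_mul_eq_one_left ?_
      rw [zpow_ofNat, ← pow_succ, h3]
  -- the normaliser of `⟨x⟩`
  set W := Subgroup.normalizer ((Subgroup.zpowers x : Subgroup G) : Set G) with hWdef
  have hWne : W ≠ ⊤ := Small.normalizer_ne_top
    (fun h => by rw [Subgroup.zpowers_eq_bot] at h; exact hx1 h)
    (fun h => by
      have := congrArg (fun K : Subgroup G => Nat.card K) h
      simp only [Nat.card_zpowers, hx, Subgroup.card_top, hG] at this
      norm_num at this)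
  have hMW : M ≤ W := fun g hg => Subgroup.centralizer_le_normalizer _ (Subgroup.mem_centralizer_iff.2
    fun a ha => by
      obtain ⟨j, rfl⟩ := Subgroup.mem_zpowers_iff.1 ha
      exact (Commute.zpow_left (Subgroup.mem_centralizer_iff.1 hg x rfl) j).eq)
  have hNW : N ≤ W := fun g hg => by
    refine Subgroup.mem_normalizer_iff.2 fun a => ?_
    have key : ∀ h ∈ N, ∀ a ∈ Subgroup.zpowers x, h * a * h⁻¹ ∈ Subgroup.zpowers x := by
      intro h hh a ha
      obtain ⟨j, rfl⟩ := Subgroup.mem_zpowers_iff.1 ha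
      rw [← conj_zpow]
      rcases hconj h hh with e | e <;> rw [e]
      · exact zpow_mem (Subgroup.mem_zpowers x) j
      · exact zpow_mem (inv_mem (Subgroup.mem_zpowers x)) j
    refine ⟨key g hg a, fun h => ?_⟩
    have := key g⁻¹ (inv_mem hg) _ h
    simpa [mul_assoc] using this
  -- the centraliser of `x` contains 165 elements of the normaliser
  have hhalf : Nat.card N ≤ 2 * Nat.card ↥(N ⊓ M) := by
    have hmul := (M.subgroupOf N).index_mul_card
    have he : Nat.card (M.subgroupOf N) = Nat.card ↥(N ⊓ M) := by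
      rw [← Subgroup.inf_subgroupOf_right M N, inf_comm M N, Nat.card_congr (Subgroup.subgroupOfEquivOfLe inf_le_left).toEquiv]
    have hi : (M.subgroupOf N).index ≤ 2 := by
      rw [Subgroup.index_eq_card]
      let φ : N ⧸ M.subgroupOf N → ({x, x⁻¹} : Set G) := Quotient.lift
        (fun g : N => (⟨(g : G) * x * (g : G)⁻¹, by rcases hconj g g.2 with e | e <;> simp [e]⟩ : ({x, x⁻¹} : Set G)))
        (fun a b hab => by
          replace hab := QuotientGroup.leftRel_apply.1 hab
          rw [Subgroup.mem_subgroupOf, Subgroup.mem_centralizer_iff] at hab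
          have h1 := hab x rfl
          refine Subtype.ext ?_
          show (a : G) * x * (a : G)⁻¹ = (b : G) * x * (b : G)⁻¹
          simp only [Subgroup.coe_mul, Subgroup.coe_inv] at h1
          calc (a : G) * x * (a : G)⁻¹ = (a : G) * (x * ((a : G)⁻¹ * (b : G))) * (b : G)⁻¹ := by group
            _ = (a : G) * ((a : G)⁻¹ * (b : G) * x) * (b : G)⁻¹ := by rw [h1]
            _ = _ := by group)
      have hφ : Function.Injective φ := by
        intro a b
        induction a using Quotient.inductionOn' with | h a => ?_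
        induction b using Quotient.inductionOn' with | h b => ?_
        intro hab
        have h1 : (a : G) * x * (a : G)⁻¹ = (b : G) * x * (b : G)⁻¹ := congrArg Subtype.val hab
        refine Quotient.sound' ?_
        rw [QuotientGroup.leftRel_apply, Subgroup.mem_subgroupOf, Subgroup.mem_centralizer_iff]
        intro z hz
        rw [Set.mem_singleton_iff.1 hz]
        push_cast
        calc x * ((a : G)⁻¹ * b) = (a : G)⁻¹ * ((a : G) * x * (a : G)⁻¹) * b := by group
          _ = (a : G)⁻¹ * b * x := by rw [h1]; group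
      refine le_trans (Nat.card_le_card_of_injective φ hφ) ?_
      rw [Nat.card_coe_set_eq]
      exact le_trans (Set.ncard_insert_le _ _) (by simp)
    rw [← hmul, he]
    exact Nat.mul_le_mul_right _ hi
  -- count the Sylow subgroups of the centraliser
  set PM := P.subtype hPM with hPMdef
  have hMmul := card_sylow_mul_card_normalizer PM
  have hNM : Nat.card (Subgroup.normalizer ((PM : Subgroup M) : Set M)) = Nat.card ↥(N ⊓ M) := by
    rw [show Subgroup.normalizer ((PM : Subgroup M) : Set M) = N.subgroupOf M from (Subgroup.subgroupOf_normalizer_eq hPM).symm,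
      ← Subgroup.inf_subgroupOf_right N M, Nat.card_congr (Subgroup.subgroupOfEquivOfLe inf_le_right).toEquiv]
  rw [hNM] at hMmul
  set k := Nat.card ↥(N ⊓ M) with hk
  set n := Nat.card (Sylow 11 M) with hn
  have hMd := Subgroup.card_subgroup_dvd_card M
  rw [hG] at hMd
  have hNd : k ∣ 330 := hN ▸ Subgroup.card_dvd_of_le (inf_le_left : N ⊓ M ≤ N)
  have hkd : n * k ∣ 47520 := hMmul ▸ hMd
  have hmod := card_sylow_modEq_one 11 M
  rw [← hn] at hmod
  have hMi := hidx M hMne
  have hMc := M.index_mul_card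
  rw [hG, ← hMmul] at hMc
  rw [← hMmul] at h9
  rw [hN] at hhalf
  have hWi := hidx W hWne
  have hWc := W.index_mul_card
  rw [hG] at hWc
  have hk' : k = 165 ∨ k = 330 := by
    obtain ⟨j, hj⟩ := hNd
    have : j ≤ 2 := by nlinarith
    interval_cases j <;> omega
  have hn12 : n ≠ 1 := by
    intro h
    rw [h, one_mul] at h9
    rcases hk' with e | e <;> rw [e] at h9 <;> norm_num at h9
  unfold Nat.ModEq at hmod
  have hnlt : n ≤ 22 := by rcases hk' with e | e <;> rw [e] at hMc <;> nlinarith
  have hn' : n = 12 := by omega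
  rw [hn'] at hMmul hMc h9 hkd
  rcases hk' with e | e
  · have hM1 : Nat.card M = 1980 := by rw [← hMmul, e]
    have h1 : Nat.card M ∣ Nat.card W := Subgroup.card_dvd_of_le hMW
    have h2 : Nat.card N ∣ Nat.card W := Subgroup.card_dvd_of_le hNW
    rw [hM1] at h1
    rw [hN] at h2
    obtain ⟨u, hu⟩ := h1
    have hu2 : 2 ≤ u := by
      by_contra h
      have hle : Nat.card W ≤ Nat.card M := by rw [hu, hM1]; nlinarith
      have hWM := Subgroup.eq_of_le_of_card_ge hMW hle
      have h330 : Nat.card N ≤ Nat.card ↥(N ⊓ M) :=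
        Subgroup.card_le_of_le (le_inf le_rfl (hWM ▸ hNW))
      omega
    nlinarith
  · rw [e] at hMc
    omega

/-- A non-abelian simple group of order dividing 95040 and divisible by eleven has order 660, 7920
or 95040. -/
theorem simple_orders (hna : ¬ IsMulCommutative G) (h11 : 11 ∣ Nat.card G)
    (hdiv : Nat.card G ∣ 95040) :
    Nat.card G = 660 ∨ Nat.card G = 7920 ∨ Nat.card G = 95040 := by
  rcases order_cases hna h11 hdiv with h | h | h | ⟨P, N, r, c, hmem, hG, hP, hN, hC⟩
  · exact Or.inl h
  · exact Or.inr (Or.inl h)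
  · exact Or.inr (Or.inr h)
  · exfalso
    simp only [List.mem_cons, List.not_mem_nil, or_false, Prod.mk.injEq] at hmem
    rcases hmem with ⟨rfl, rfl, rfl⟩ | ⟨rfl, rfl, rfl⟩ | ⟨rfl, rfl, rfl⟩ | ⟨rfl, rfl, rfl⟩
    · exact false_11880 hna hG P hP hN hC
    · exact false_15840 hna hG P hP hN hC
    · exact false_47520 hna hG P hP (Or.inr rfl) hN hC
    · exact false_47520 hna hG P hP (Or.inl rfl) hN hC

end CfsgLib.MTwelveGraph
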