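import Cfsg.Agent.MTwelveGraph.Block

/-!
# Orders of simple groups dividing 95040 and divisible by eleven
-/

set_option autoImplicit false
set_option maxHeartbeats 800000

namespace CfsgLib.MTwelveGraph

open Cfsg CfsgLib.Small CfsgLib.Classification.SmallOrders CfsgLib.Classification.OrderRange

/-- A number of Sylow 11-subgroups, with an index, that is impossible by the degree test. -/
def optOK (N d r M : ℕ) : Bool :=
  !(N % (d * (r * 11)) == 0) ||
    ((d == 12) && !(N / (d * (r * 11)) == 1)) ||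
    ((N / (d * (r * 11)) == 1) && decide (2 * d < 156) && !(2 * N == 11 * 120) && !(N == 10 * 99)) ||
    killedL N 11 r (N / (d * (r * 11))) (fun _ => false) (candsM N 11 (N / (d * (r * 11))) M) (r - 1) 1 (N - 1)

/-- All options for order `N` are impossible, apart from the listed pairs. -/
def ordOK (N M : ℕ) (exc : List (ℕ × ℕ)) : Bool :=
  decide (N < M * M) && [12, 45, 144, 320, 540, 1728].all fun d : ℕ =>
    !(N / 11 % d == 0) || [2, 5, 10].all fun r : ℕ => exc.contains (d, r) || optOK N d r M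

variable {G : Type*} [Group G] [Finite G] [IsSimpleGroup G]

theorem options (hna : ¬ IsMulCommutative G) [Fact (Nat.Prime 11)] {N M : ℕ}
    (hN : Nat.card G = N) (h11 : 11 ∣ N) (hdiv : N ∣ 95040) {exc : List (ℕ × ℕ)}
    (hok : ordOK N M exc = true) :
    ∃ (P : Sylow 11 G) (d r c : ℕ), (d, r) ∈ exc ∧ Nat.card (Sylow 11 G) = d ∧
      Nat.card (P : Subgroup G) = 11 ∧ N = d * (r * 11) * c ∧
      Nat.card (Subgroup.normalizer ((P : Subgroup G) : Set G)) = r * (11 * c) ∧
      Nat.card (Subgroup.centralizer ((P : Subgroup G) : Set G)) = 11 * c := by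
  classical
  haveI := Fintype.ofFinite G
  obtain ⟨P⟩ : Nonempty (Sylow 11 G) := inferInstance
  obtain ⟨m, hm⟩ := h11
  have hmd : m ∣ 8640 := Nat.dvd_of_mul_dvd_mul_left (by norm_num : 0 < 11)
    (hm ▸ hdiv : 11 * m ∣ 11 * 8640)
  have hm11 : ¬ 11 ∣ m := fun h => absurd (h.trans hmd) (by norm_num)
  have hcard : Nat.card G = 11 ^ 1 * m := by rw [hN, hm, pow_one]
  have hP : Nat.card (P : Subgroup G) = 11 := by rw [Small.card_sylow_eq hcard hm11 P, pow_one]
  have hpG : 11 ∣ Nat.card G := hP ▸ Subgroup.card_subgroup_dvd_card (P : Subgroup G)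
  obtain ⟨r, c, hr, hr1, hNc, hCc⟩ := exists_relIndex hna P hP
  set d := Nat.card (Sylow 11 G) with hd
  have hdm : d ∣ m := Small.card_sylow_dvd hcard hm11
  have hmod := card_sylow_modEq_one 11 G
  rw [← hd] at hmod
  have hne1 : d ≠ 1 := card_sylow_ne_one hna hpG
  have hlist : ∀ n ∈ Nat.divisors 8640, n % 11 = 1 → n ≠ 1 →
      n ∈ [12, 45, 144, 320, 540, 1728] := by decide +kernel
  have hdl := hlist d (Nat.mem_divisors.2 ⟨hdm.trans hmd, by norm_num⟩) hmod hne1
  have hr' : r ∈ [2, 5, 10] := by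
    have : r ≤ 10 := Nat.le_of_dvd (by norm_num) hr
    interval_cases r <;> simp_all
  have hmul := card_sylow_mul_card_normalizer P
  rw [hNc, hN, ← hd] at hmul
  have hN1 : N = d * (r * 11) * c := by rw [← hmul]; ring
  refine ⟨P, d, r, c, ?_, rfl, hP, hN1, hNc, hCc⟩
  simp only [ordOK, Bool.and_eq_true, decide_eq_true_eq] at hok
  obtain ⟨hM, hall⟩ := hok
  rw [List.all_eq_true] at hall
  have h1 := hall d hdl
  have hmod' : N / 11 % d = 0 := by
    rw [hm, Nat.mul_div_cancel_left _ (by norm_num)]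
    exact Nat.mod_eq_zero_of_dvd hdm
  simp only [hmod', beq_self_eq_true, Bool.not_true, Bool.false_or, List.all_eq_true] at h1
  have h2 := h1 r hr'
  rcases Bool.or_eq_true _ _ ▸ h2 with h | h
  · simpa using h
  exfalso
  have hpos : 0 < d * (r * 11) := by
    refine Nat.mul_pos Nat.card_pos ?_
    rcases Nat.eq_zero_or_pos r with rfl | hr0
    · norm_num at hr
    · omega
  have hdiv' : N / (d * (r * 11)) = c := by rw [hN1]; exact Nat.mul_div_cancel_left _ hpos
  simp only [optOK, hdiv', Bool.or_eq_true, Bool.and_eq_true, Bool.not_eq_true',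
    decide_eq_true_eq, beq_iff_eq, beq_eq_false_iff_ne] at h
  have hrel : (Subgroup.centralizer ((P : Subgroup G) : Set G)).relIndex
      (Subgroup.normalizer ((P : Subgroup G) : Set G)) = r := by
    have h3 := card_centralizer_mul_relIndex (P : Subgroup G)
    rw [hCc, hNc, mul_comm r] at h3
    have hc0 : 0 < 11 * c := hCc ▸ Nat.card_pos
    exact Nat.eq_of_mul_eq_mul_left hc0 h3
  rcases h with ((h | h) | h) | h
  · exact h (by rw [hN1]; exact Nat.mul_mod_right _ _)
  · have h3 := congrArg (fun H : Subgroup G => Nat.card H)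
      (centralizer_eq_of_card_succ hna hpG P hP (by rw [← hd, h.1]))
    simp only [hCc, hP] at h3
    omega
  · obtain ⟨⟨⟨hc1, hsmall⟩, hodd⟩, heven⟩ := h
    haveI := isCyclic_of_prime_card hP
    have S : LargePrime.Core P := ⟨Classification.SmallOrders.commutator_eq_top hna, hP,
      (Subgroup.eq_of_le_of_card_ge (Subgroup.le_centralizer (P : Subgroup G))
        (by rw [hP, hCc, hc1, mul_one])).symm⟩
    rcases LargePrime.Setup.classification (P := P) ⟨S, by omega⟩ with
      ⟨F, i1, i2, hF, -, ⟨φ⟩⟩ | ⟨i, F, i1, i2, hF, hpi, -, ⟨φ⟩⟩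
    · have := Linear.card_PSL_two_odd (F := F) (by rw [hF]; decide)
      rw [← Nat.card_congr φ.toEquiv, hN, hF] at this
      exact hodd (by omega)
    · have hev : Even (Fintype.card F) := by
        rw [hF]
        exact (Nat.even_pow.2 ⟨even_two, fun h => by rw [h, pow_zero] at hpi; omega⟩)
      have := Linear.card_PSL_two_even (F := F) hev
      rw [← Nat.card_congr φ.toEquiv, hN, hF] at this
      exact heven (by rw [show (2 : ℕ) ^ i = 10 by omega] at this; omega)
  · obtain ⟨L, d', h1, h2, h3, h4, h5, h6, h7, h8, h9, -, -, -⟩ :=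
      block_degrees hna (by norm_num) P hP hN hM hrel
        (by simp only [List.mem_cons, List.not_mem_nil, or_false] at hr'; omega) (Nat.le_of_dvd (by norm_num) hr) hCc
    exact Bool.false_ne_true (killedL_spec _ L _ _ _ h (by omega) h2 d' h3 h4 h5 h6 h7 h8 h9)

/-- The options left by the degree test. -/
def leftOver (N : ℕ) : List (ℕ × ℕ) :=
  if N == 11880 then [(540, 2)] else if N == 15840 then [(144, 10)] else
    if N == 47520 then [(144, 5), (144, 10)] else []

theorem ok_all : ((List.range 8641).all fun m : ℕ => !(8640 % m == 0) ||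
    [660, 990, 7920, 95040].contains (11 * m) || ordOK (11 * m) 309 (leftOver (11 * m))) = true := by
  decide +kernel

/-- The possible orders, with the remaining options for three of them. -/
theorem order_cases (hna : ¬ IsMulCommutative G) [Fact (Nat.Prime 11)] (h11 : 11 ∣ Nat.card G)
    (hdiv : Nat.card G ∣ 95040) :
    Nat.card G = 660 ∨ Nat.card G = 7920 ∨ Nat.card G = 95040 ∨
      ∃ (P : Sylow 11 G) (N r c : ℕ), (N, r, c) ∈ [(11880, 2, 1), (15840, 10, 1), (47520, 5, 6), (47520, 10, 3)] ∧
        Nat.card G = N ∧ Nat.card (P : Subgroup G) = 11 ∧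
        Nat.card (Subgroup.normalizer ((P : Subgroup G) : Set G)) = r * (11 * c) ∧
        Nat.card (Subgroup.centralizer ((P : Subgroup G) : Set G)) = 11 * c := by
  obtain ⟨m, hm⟩ := h11
  have hmd : m ∣ 8640 := Nat.dvd_of_mul_dvd_mul_left (by norm_num : 0 < 11)
    (hm ▸ hdiv : 11 * m ∣ 11 * 8640)
  have hall := ok_all
  rw [List.all_eq_true] at hall
  have h1 := hall m (List.mem_range.2 (Nat.lt_succ_of_le (Nat.le_of_dvd (by norm_num) hmd)))
  simp only [Nat.mod_eq_zero_of_dvd hmd, beq_self_eq_true, Bool.not_true, Bool.false_or,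
    Bool.or_eq_true, ← hm, List.contains_iff_mem, List.mem_cons, List.not_mem_nil, or_false] at h1
  rcases h1 with (h | h | h | h) | h
  · exact Or.inl h
  · exfalso
    have h4 := Small.four_dvd_card_of_simple hna (by rw [h]; norm_num)
    rw [h] at h4
    norm_num at h4
  · exact Or.inr (Or.inl h)
  · exact Or.inr (Or.inr (Or.inl h))
  refine Or.inr (Or.inr (Or.inr ?_))
  obtain ⟨P, d, r, c, he, -, hP, hN1, hNc, hCc⟩ := options hna rfl ⟨m, hm⟩ hdiv h
  refine ⟨P, Nat.card G, r, c, ?_, rfl, hP, hNc, hCc⟩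
  unfold leftOver at he
  simp only [beq_iff_eq] at he
  split_ifs at he with e1 e2 e3
  all_goals simp only [List.mem_cons, List.not_mem_nil, or_false, Prod.mk.injEq] at he ⊢
  · obtain ⟨rfl, rfl⟩ := he; omega
  · obtain ⟨rfl, rfl⟩ := he; omega
  · rcases he with ⟨rfl, rfl⟩ | ⟨rfl, rfl⟩ <;> omega

end CfsgLib.MTwelveGraph
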