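import Cfsg.Agent.MTwelveGraph.SchemeData
import Cfsg.Agent.Mathieu.Steiner12Aut
import Mathlib.GroupTheory.GroupAction.SubMulAction.Combination

/-!
# The scheme on the triples of the Steiner system S(5,6,12)

The automorphism group has at most five orbits on pairs of triples, told apart by the meet and,
for disjoint triples, by whether the union is a block.
-/

set_option autoImplicit false
set_option maxRecDepth 100000

namespace CfsgLib.MTwelveGraph.Scheme

open Cfsg Finset CfsgLib.Mathieu CfsgLib.Mathieu.S12
open scoped Pointwise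

/-- The mask of a set of labels. -/
def mask (s : Finset (Fin 12)) : ℕ := Nat.ofBits fun i => decide (i ∈ s)

theorem mask_lt (s : Finset (Fin 12)) : mask s < 4096 := Nat.ofBits_lt_two_pow _

theorem testBit_mask (s : Finset (Fin 12)) (i : Fin 12) : (mask s).testBit i.val = decide (i ∈ s) :=
  Nat.testBit_ofBits_lt _ _ i.isLt

theorem set12_mask (s : Finset (Fin 12)) : set12 (mask s) = s := by
  ext i
  simp [set12, testBit_mask]

theorem mask_set12 {m : ℕ} (hm : m < 4096) : mask (set12 m) = m :=
  set12_injOn (mask_lt _) hm (set12_mask _)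

/-- The number of labels in a mask. -/
def size (m : ℕ) : ℕ := (set12 m).card

theorem set12_and (a b : ℕ) : set12 (a &&& b) = set12 a ∩ set12 b := by
  ext i
  simp [set12, Nat.testBit_land]

theorem set12_or (a b : ℕ) : set12 (a ||| b) = set12 a ∪ set12 b := by
  ext i
  simp [set12, Nat.testBit_lor]

theorem mask_mem_iff (s : Finset (Fin 12)) : mask s ∈ hexMasks ↔ s ∈ std12 := by
  simp only [std12, List.mem_toFinset, List.mem_map]
  constructor
  · exact fun h => ⟨_, h, set12_mask s⟩
  · rintro ⟨h, hh, rfl⟩
    rwa [mask_set12 (hexMasks_lt h hh)]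

/-- The class of a pair of masks. -/
def classOf (a b : ℕ) : ℕ :=
  if size (a &&& b) = 0 ∧ (a ||| b) ∈ hexMasks then 4 else size (a &&& b)

theorem classOf_mask (s t : Finset (Fin 12)) : classOf (mask s) (mask t) =
    if (s ∩ t).card = 0 ∧ s ∪ t ∈ std12 then 4 else (s ∩ t).card := by
  have h1 : size (mask s &&& mask t) = (s ∩ t).card := by rw [size, set12_and, set12_mask, set12_mask]
  have hor : mask s ||| mask t < 2 ^ 12 := Nat.or_lt_two_pow (mask_lt s) (mask_lt t)
  have h2 : (mask s ||| mask t) ∈ hexMasks ↔ s ∪ t ∈ std12 := by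
    rw [← mask_mem_iff, ← mask_set12 hor, set12_or, set12_mask, set12_mask]
  simp only [classOf, h1, h2]

/-- The automorphism group of the standard system. -/
abbrev Aut12 : Subgroup (Equiv.Perm (Fin 12)) := setSystemAut (std12 : Set (Finset (Fin 12)))

/-- The triples. -/
abbrev Triple : Type := Set.powersetCard (Fin 12) 3

instance : MulAction Aut12 Triple := MulAction.compHom _ Aut12.subtype

theorem coe_smul (g : Aut12) (x : Triple) :
    ((g • x : Triple) : Finset (Fin 12)) = (x : Finset (Fin 12)).image (g : Equiv.Perm (Fin 12)) := rfl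

/-- The class of a pair of triples. -/
def cls (x y : Triple) : ℕ := classOf (mask (x : Finset (Fin 12))) (mask (y : Finset (Fin 12)))

theorem cls_smul (g : Aut12) (x y : Triple) : cls (g • x) (g • y) = cls x y := by
  simp only [cls, classOf_mask, coe_smul]
  set σ : Equiv.Perm (Fin 12) := (g : Equiv.Perm (Fin 12))
  rw [← image_inter _ _ σ.injective, ← image_union, card_image_of_injective _ σ.injective]
  have hiff : ∀ s : Finset (Fin 12), s.image σ ∈ std12 ↔ s ∈ std12 := by
    intro s
    refine ⟨fun h => ?_, fun h => mem_coe.1 (setSystemAut_image_mem g.2 (mem_coe.2 h))⟩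
    have := mem_coe.1 (setSystemAut_image_mem (inv_mem g.2) (mem_coe.2 h))
    rwa [image_image, show (⇑σ⁻¹ ∘ ⇑σ) = id from funext fun i => σ.symm_apply_apply i, image_id] at this
  simp only [hiff]

theorem cls_comm (x y : Triple) : cls x y = cls y x := by
  simp only [cls, classOf_mask, inter_comm, union_comm]

/-- The image of a mask under a map of labels. -/
def act (f : Fin 12 → Fin 12) (m : ℕ) : ℕ :=
  (List.finRange 12).foldr (fun (i : Fin 12) (acc : ℕ) => if m.testBit i.val then acc ||| 2 ^ (f i).val else acc) 0

theorem testBit_foldr (f : Fin 12 → Fin 12) (m : ℕ) (L : List (Fin 12)) (k : ℕ) :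
    ((L.foldr (fun (i : Fin 12) (acc : ℕ) => if m.testBit i.val then acc ||| 2 ^ (f i).val else acc) 0).testBit k =
      true) ↔ ∃ i ∈ L, m.testBit i.val = true ∧ (f i).val = k := by
  induction L with
  | nil => simp
  | cons a L ih =>
    simp only [List.foldr_cons, List.mem_cons, exists_eq_or_imp]
    by_cases ha : m.testBit a.val
    · rw [if_pos ha, Nat.testBit_or, Bool.or_eq_true, ih, Nat.testBit_two_pow]
      simp only [decide_eq_true_eq, ha, true_and]
      exact or_comm
    · rw [if_neg ha, ih]
      simp [ha]

theorem act_mask (f : Fin 12 → Fin 12) (s : Finset (Fin 12)) : act f (mask s) = mask (s.image f) := by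
  refine Nat.eq_of_testBit_eq fun k => ?_
  rw [Bool.eq_iff_iff, act, testBit_foldr]
  rcases lt_or_ge k 12 with hk | hk
  · rw [show k = (⟨k, hk⟩ : Fin 12).val from rfl, testBit_mask]
    simp [testBit_mask, Fin.ext_iff]
  · rw [Nat.testBit_lt_two_pow ((mask_lt _).trans_le ((show 4096 ≤ 2 ^ k from
      (show 4096 = 2 ^ 12 by norm_num) ▸ Nat.pow_le_pow_right (by norm_num) hk)))]
    constructor
    · rintro ⟨i, -, -, rfl⟩
      exact absurd (f i).isLt (by omega)
    · simp

theorem mem_of_testBit (L : List ℕ) (m : ℕ)
    (h : (L.foldr (fun i acc => acc ||| 2 ^ i) 0).testBit m = true) : m ∈ L := by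
  induction L with
  | nil => simp at h
  | cons a L ih =>
    rw [List.foldr_cons, Nat.testBit_or, Bool.or_eq_true, Nat.testBit_two_pow, decide_eq_true_eq] at h
    rcases h with h | h
    · exact List.mem_cons_of_mem _ (ih h)
    · exact h ▸ List.mem_cons_self

theorem hexBits_eq : hexBits = hexMasks.foldr (fun i acc => acc ||| 2 ^ i) 0 := by decide +kernel

theorem allGens_inj :
    allGens.all (fun f => decide ((List.finRange 12).map f).Nodup) = true := by decide +kernel

theorem allGens_hex : allGens.all (fun f => hexMasks.all fun h => hexBits.testBit (act f h)) = true := by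
  decide +kernel

theorem exists_aut {f : Fin 12 → Fin 12} (hf : f ∈ allGens) :
    ∃ g : Aut12, ∀ i, (g : Equiv.Perm (Fin 12)) i = f i := by
  have hinj : Function.Injective f := fun i j h =>
    List.inj_on_of_nodup_map (of_decide_eq_true (List.all_eq_true.1 allGens_inj f hf)) (List.mem_finRange i) (List.mem_finRange j) h
  have hhex : ∀ h ∈ hexMasks, act f h ∈ hexMasks := fun h hh => by
    refine mem_of_testBit _ _ ?_
    rw [← hexBits_eq]
    exact List.all_eq_true.1 (List.all_eq_true.1 allGens_hex f hf) h hh
  refine ⟨⟨Equiv.ofBijective f (Finite.injective_iff_bijective.1 hinj),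
    mem_setSystemAut_of_image fun b hb => mem_coe.2 ?_⟩, fun i => rfl⟩
  rw [← mask_mem_iff]
  have h := hhex _ ((mask_mem_iff b).2 (mem_coe.1 hb))
  rwa [act_mask] at h

theorem mask_smul {f : Fin 12 → Fin 12} {g : Aut12} (hg : ∀ i, (g : Equiv.Perm (Fin 12)) i = f i)
    (x : Triple) : mask ((g • x : Triple) : Finset (Fin 12)) = act f (mask (x : Finset (Fin 12))) := by
  rw [act_mask, coe_smul]
  exact congrArg mask (image_congr fun i _ => hg i)

/-- Every member after the first is moved by a generator to an earlier one. -/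
def Chained (gens : List (Fin 12 → Fin 12)) (L : List ℕ) : Prop :=
  ∀ i < L.length, i = 0 ∨ gens.any (fun f => (L.take i).contains (act f (L.getD i 0))) = true

instance (gens : List (Fin 12 → Fin 12)) (L : List ℕ) : Decidable (Chained gens L) := by
  unfold Chained; infer_instance

theorem exists_to_head {gens : List (Fin 12 → Fin 12)} (hsub : ∀ f ∈ gens, f ∈ allGens)
    (P : Aut12 → Prop) (hP1 : P 1) (hPm : ∀ a b, P a → P b → P (a * b))
    (hP : ∀ f ∈ gens, ∀ g : Aut12, (∀ i, (g : Equiv.Perm (Fin 12)) i = f i) → P g)
    {L : List ℕ} (hL : Chained gens L) {x : Triple} (hx : mask (x : Finset (Fin 12)) ∈ L) :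
    ∃ g : Aut12, P g ∧ mask ((g • x : Triple) : Finset (Fin 12)) = L.getD 0 0 := by
  obtain ⟨i, hi, hix⟩ := List.getElem_of_mem hx
  induction i using Nat.strong_induction_on generalizing x with
  | _ i ih =>
    rcases hL i hi with rfl | h
    · exact ⟨1, hP1, by rw [one_smul, ← hix, List.getD_eq_getElem _ _ hi]⟩
    obtain ⟨f, hf, hmem⟩ := List.any_eq_true.1 h
    obtain ⟨g, hg⟩ := exists_aut (hsub f hf)
    rw [List.getD_eq_getElem _ _ hi, hix, List.contains_iff_mem, ← mask_smul hg] at hmem
    obtain ⟨j, hj, hjx⟩ := List.getElem_of_mem hmem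
    rw [List.getElem_take] at hjx
    have hji : j < i := (List.length_take.symm ▸ hj).trans_le (min_le_left _ _)
    obtain ⟨g', hP', hg'⟩ := ih j hji (x := g • x) (by rw [← hjx]; exact List.getElem_mem _)
      (hji.trans hi) hjx
    exact ⟨g' * g, hPm _ _ hP' (hP f hf g hg), by rw [mul_smul, hg']⟩

theorem chained_triples : Chained allGens triples := by decide +kernel

theorem chained_classes : ∀ k < 5, Chained stabGens (classes.getD k []) := by decide +kernel

theorem triples_spec : triples.Nodup ∧ triples.length = 220 ∧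
    ∀ m ∈ triples, m < 4096 ∧ size m = 3 ∧ classOf 7 m < 5 ∧
      m ∈ classes.getD (classOf 7 m) [] := by decide +kernel

theorem getD_mem (i : Fin 220) : triples.getD i.val 0 ∈ triples := by
  have hi : i.val < triples.length := i.isLt.trans_eq triples_spec.2.1.symm
  rw [List.getD_eq_getElem _ _ hi]
  exact List.getElem_mem _

/-- The triple of a number. -/
def point (i : Fin 220) : Triple :=
  ⟨set12 (triples.getD i.val 0), Set.powersetCard.mem_iff.2 (triples_spec.2.2 _ (getD_mem i)).2.1⟩

theorem point_bijective : Function.Bijective point := by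
  rw [Fintype.bijective_iff_injective_and_card]
  refine ⟨fun i j h => ?_, ?_⟩
  · have hi : i.val < triples.length := i.isLt.trans_eq triples_spec.2.1.symm
    have hj : j.val < triples.length := j.isLt.trans_eq triples_spec.2.1.symm
    have h' : set12 (triples.getD i.val 0) = set12 (triples.getD j.val 0) := congrArg Subtype.val h
    rw [List.getD_eq_getElem _ _ hi, List.getD_eq_getElem _ _ hj] at h'
    refine Fin.ext ((triples_spec.1.getElem_inj_iff).1 (set12_injOn ?_ ?_ h'))
    · exact (triples_spec.2.2 _ (List.getElem_mem _)).1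
    · exact (triples_spec.2.2 _ (List.getElem_mem _)).1
  · rw [← Nat.card_eq_fintype_card (α := Triple), Set.powersetCard.card, Nat.card_eq_fintype_card,
      Fintype.card_fin, Fintype.card_fin]
    decide

theorem mask_mem_triples (x : Triple) : mask (x : Finset (Fin 12)) ∈ triples := by
  obtain ⟨i, rfl⟩ := point_bijective.2 x
  have hi : i.val < triples.length := i.isLt.trans_eq triples_spec.2.1.symm
  show mask (set12 (triples.getD i.val 0)) ∈ triples
  rw [List.getD_eq_getElem _ _ hi, mask_set12 (triples_spec.2.2 _ (List.getElem_mem _)).1]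
  exact List.getElem_mem _

/-- The base triple. -/
def base : Triple := ⟨{0, 1, 2}, Set.powersetCard.mem_iff.2 (by decide)⟩

theorem mask_base : mask (base : Finset (Fin 12)) = 7 := by decide +kernel

theorem triples_head : triples.getD 0 0 = 7 := by decide +kernel

theorem triple_eq {x y : Triple} (h : mask (x : Finset (Fin 12)) = mask (y : Finset (Fin 12))) :
    x = y := Subtype.ext (by rw [← set12_mask (x : Finset (Fin 12)), h, set12_mask])

theorem exists_to_base (x : Triple) : ∃ g : Aut12, g • x = base := by
  obtain ⟨g, -, hg⟩ := exists_to_head (fun f h => h) (fun _ => True) trivial (fun _ _ _ _ => trivial)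
    (fun _ _ _ _ => trivial) chained_triples (mask_mem_triples x)
  exact ⟨g, triple_eq (by rw [hg, mask_base, triples_head])⟩

/-- The five representatives. -/
def rep (k : Fin 5) : Triple :=
  ⟨set12 (([88, 25, 11, 7, 56] : List ℕ).getD k.val 0), Set.powersetCard.mem_iff.2 (by revert k; decide +kernel)⟩

theorem rep_spec : ∀ k : Fin 5, mask (rep k : Finset (Fin 12)) = (classes.getD k.val []).getD 0 0 := by
  decide +kernel

theorem stabGens_fix : stabGens.all (fun f =>
    decide ((({0, 1, 2} : Finset (Fin 12))).image f = {0, 1, 2})) = true := by decide +kernel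

theorem cls_lt (x y : Triple) : cls x y < 5 := by
  obtain ⟨g, hg⟩ := exists_to_base x
  rw [← cls_smul g, hg, cls, mask_base]
  exact (triples_spec.2.2 _ (mask_mem_triples _)).2.2.1

/-- Every pair of triples is equivalent to one of five. -/
theorem exists_to_rep (x y : Triple) :
    ∃ g : Aut12, g • x = base ∧ g • y = rep ⟨cls x y, cls_lt x y⟩ := by
  obtain ⟨a, ha⟩ := exists_to_base x
  have hcls : cls x y = classOf 7 (mask ((a • y : Triple) : Finset (Fin 12))) := by
    rw [← cls_smul a, ha, cls, mask_base]
  obtain ⟨b, hb, hby⟩ := exists_to_head (gens := stabGens) (fun f h => List.mem_append_left _ h)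
    (fun g => g • base = base) (one_smul _ _) (fun p q hp hq => by rw [mul_smul, hq, hp])
    (fun f hf g hg => triple_eq (by
      rw [mask_smul hg, act_mask]
      exact congrArg mask (of_decide_eq_true (List.all_eq_true.1 stabGens_fix f hf))))
    (chained_classes _ (triples_spec.2.2 _ (mask_mem_triples (a • y))).2.2.1)
    (triples_spec.2.2 _ (mask_mem_triples (a • y))).2.2.2
  refine ⟨b * a, by rw [mul_smul, ha, hb], triple_eq ?_⟩
  rw [mul_smul, hby, rep_spec, ← hcls]

theorem card_orbits_le :
    Nat.card (MulAction.orbitRel.Quotient Aut12 (Triple × Triple)) ≤ 5 := by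
  have h : Function.Surjective fun k : Fin 5 =>
      (Quotient.mk _ (base, rep k) : MulAction.orbitRel.Quotient Aut12 (Triple × Triple)) := by
    intro q
    obtain ⟨⟨x, y⟩, rfl⟩ := Quotient.exists_rep q
    obtain ⟨g, h1, h2⟩ := exists_to_rep x y
    exact ⟨⟨cls x y, cls_lt x y⟩, Quotient.sound ⟨g, Prod.ext h1 h2⟩⟩
  exact (Nat.card_le_card_of_surjective _ h).trans (by simp)

end CfsgLib.MTwelveGraph.Scheme
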