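import Cfsg.Agent.Mathieu.Steiner12

/-!
# Orbit certificates for the triples of the Steiner system S(5,6,12)
-/

set_option autoImplicit false

namespace CfsgLib.MTwelveGraph.Scheme

/-- Automorphisms fixing the triple `{0, 1, 2}`, with their inverses. -/
def stabGens : List (Fin 12 → Fin 12) :=
  [![1, 0, 2, 5, 6, 10, 3, 9, 8, 11, 7, 4],
   ![2, 0, 1, 5, 3, 4, 8, 6, 7, 9, 10, 11],
   ![1, 0, 2, 6, 11, 3, 4, 10, 8, 7, 5, 9],
   ![1, 2, 0, 4, 5, 3, 7, 8, 6, 9, 10, 11]]

/-- Generators of a group transitive on triples. -/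
def allGens : List (Fin 12 → Fin 12) :=
  stabGens ++ [![6, 8, 1, 2, 4, 3, 5, 10, 7, 0, 11, 9],
   ![9, 2, 3, 5, 4, 6, 0, 8, 1, 11, 7, 10]]

/-- All triples, each moved by a generator to an earlier one. -/
def triples : List ℕ :=
[
    7, 524, 322, 196, 529, 2084, 546, 2088, 273, 265, 385, 416, 1044, 1058, 2178, 2114, 2576, 81,
    2057, 2066, 1096, 522, 137, 3073, 2116, 584, 2072, 1072, 2096, 1120, 2306, 98, 140, 530, 208,
    82, 290, 164, 1282, 770, 1216, 1288, 328, 1792, 1160, 1057, 1034, 152, 41, 1036, 1153, 1041,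
    2312, 1537, 2308, 2113, 1284, 2180, 25, 2305, 1029, 800, 2688, 2592, 2128, 2568, 3088, 162,
    74, 268, 112, 578, 50, 1568, 580, 2561, 784, 1168, 168, 1312, 161, 193, 532, 2081, 545, 261,
    1090, 274, 100, 1092, 3074, 146, 3076, 1664, 2624, 2177, 28, 1033, 656, 37, 1064, 1048, 1104,
    536, 56, 1296, 769, 1030, 896, 69, 296, 548, 521, 2068, 2065, 73, 21, 304, 76, 1281, 145, 70,
    392, 1540, 289, 134, 2432, 641, 2054, 1408, 648, 1344, 3104, 352, 1184, 336, 35, 1600, 672,
    42, 1154, 704, 2120, 97, 3136, 608, 104, 26, 52, 642, 2082, 194, 832, 2208, 644, 1538, 772,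
    276, 292, 1089, 388, 138, 44, 560, 84, 38, 1027, 3328, 2816, 88, 517, 3080, 324, 148, 280,
    2053, 1544, 3200, 1552, 2240, 2060, 2562, 2564, 3584, 577, 2368, 400, 2184, 266, 1042, 386,
    19, 2058, 262, 67, 49, 1156, 133, 2336, 321, 22, 1060, 2320, 14, 11, 224, 2144, 176, 200,
    552, 448, 2192, 131, 592, 13, 259, 2051, 776, 515, 518]

/-- The five classes relative to `{0, 1, 2}`, ordered likewise. -/
def classes : List (List ℕ) :=
  [
   [
       88, 2128, 176, 104, 296, 2576, 2208, 2312, 3080, 1600, 152, 1064, 304, 328, 1312, 2688, 2592,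
       2568, 1544, 1552, 832, 608, 3088, 3104, 1664, 2184, 1792, 3136, 1048, 1184, 1072, 1344, 336,
       208, 416, 1096, 1408, 1168, 2816, 2624, 648, 704, 2096, 224, 1568, 2240, 400, 896, 784, 552,
       2320, 560, 2144, 2432, 3200, 3328, 1288, 1104, 2088, 1216, 392, 584, 112, 168, 656, 2072,
       536, 2368, 352, 200, 800, 280],
   [
       25, 2114, 50, 98, 44, 529, 2180, 2305, 2057, 1089, 140, 1033, 273, 76, 1060, 2178, 546, 524,
       1540, 532, 770, 274, 578, 2066, 2084, 1154, 138, 1284, 1092, 548, 1042, 162, 2306, 322, 84,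
       145, 290, 1156, 1537, 2308, 2113, 137, 3073, 196, 164, 1538, 545, 2116, 522, 385, 580, 641,
       100, 321, 644, 769, 2561, 81, 1044, 1057, 276, 97, 292, 388, 52, 1153, 1282, 521, 3076, 530,
       2081, 193, 268, 2177, 265, 2068, 161, 266, 3074, 1281, 1090, 772, 26, 146, 1036, 82, 28, 148,
       2060, 2562, 194, 2564, 386, 642, 74, 1034, 42, 324, 73, 41, 1058, 289, 2082, 2058, 49, 577,
       1041, 2065],
   [
       11, 67, 22, 35, 37, 19, 134, 261, 2053, 69, 14, 1027, 21, 1030, 2051, 38, 13, 1029, 517, 262,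
       518, 2054, 131, 70, 133, 515, 259],
   [
       7],
   [
       56, 2120, 1120, 592, 2192, 2336, 1160, 1296, 672, 776, 3584, 448]]

end CfsgLib.MTwelveGraph.Scheme
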