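import Cfsg.Agent.MTwelveGraph.Exceptions
import Cfsg.Agent.MTwelveGraph.ElevenDegrees
import Cfsg.Agent.MTwelveGraph.Central
import Cfsg.Agent.MTwelveUnique.Main
import Cfsg.Agent.MElevenUnique.Main
import Cfsg.Agent.GraphSimple.Eleven
import Cfsg.Agent.GaloisAverage.Ito
import Cfsg.Agent.S2034
import Cfsg.Agent.S2060
import Cfsg.Agent.DegreeGraph.Basic
import Cfsg.Agent.DicksonPSL2.Recognition

/-!
# Groups of order 95040 with degrees divisible by 55 and by 33

Such a group is simple, so the Mathieu group of degree twelve, or is the product of the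
alternating group of degree four and the Mathieu group of degree eleven.
-/

set_option autoImplicit false
set_option maxHeartbeats 800000
set_option linter.style.haveILetI false
set_option linter.unusedSectionVars false

namespace CfsgLib.MTwelveGraph

open Cfsg Subgroup
open scoped Pointwise

universe u

variable {G : Type u} [Group G] [Finite G]

/-- A normal subgroup of order prime to eleven centralises a Sylow 11-subgroup. -/
theorem le_centralizer_of_not_dvd (hG : Nat.card G = 95040) [Fact (Nat.Prime 11)] (Ps : Sylow 11 G)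
    (hP : Nat.card (Ps : Subgroup G) = 11) {K : Subgroup G} (hK : K.Normal)
    (h11K : ¬ 11 ∣ Nat.card K) : K ≤ centralizer ((Ps : Subgroup G) : Set G) := by
  set P : Subgroup G := (Ps : Subgroup G)
  have hcopK : (Nat.card P).Coprime (Nat.card K) :=
    hP ▸ (Nat.Prime.coprime_iff_not_dvd (by norm_num)).2 h11K
  have hsolv : Group.IsSolvable P := by
    haveI : IsCyclic P := isCyclic_of_prime_card hP
    letI := IsCyclic.commGroup (α := P)
    exact inferInstance
  have hall : Nat.card K ∣ Nat.card ↥(K ⊓ centralizer (P : Set G)) := by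
    rw [Nat.dvd_iff_prime_pow_dvd_dvd]
    intro q k hq hqk
    haveI := Fact.mk hq
    rcases Nat.eq_zero_or_pos k with rfl | hk
    · simp
    obtain ⟨R, hR⟩ := Coprime.exists_invariant_sylow (A := P) (G := K)
      (fun a _ => by rw [Subgroup.normalizer_eq_top_iff.2 hK]; exact Subgroup.mem_top a) hcopK (Or.inl hsolv) q
    set R' := (R : Subgroup K).map K.subtype
    have hRle : R' ≤ K := Subgroup.map_subtype_le _
    obtain ⟨b, hb⟩ := IsPGroup.iff_card.1 (R.2.map K.subtype)
    have hqK : q ∣ Nat.card K := (dvd_pow_self q hk.ne').trans hqk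
    have hq11 : q ≠ 11 := fun e => h11K (e ▸ hqK)
    have hR'd : q ^ b ∣ 8640 := by
      have h1 : q ^ b ∣ 11 * 8640 := by
        rw [← hb, show 11 * 8640 = 95040 by norm_num, ← hG]; exact Subgroup.card_subgroup_dvd_card R'
      exact (Nat.Coprime.pow_left b ((Nat.coprime_primes hq (by norm_num)).2 hq11)).dvd_of_dvd_mul_left h1
    have hb6 : q ^ b ∣ 8640 → (∀ d, d ∣ q ^ b → d % 11 = q ^ b % 11 → d = q ^ b) := by
      intro h d hd hmod
      have key : ∀ n ∈ [1, 2, 4, 8, 16, 32, 64, 3, 9, 27, 5], ∀ m ∈ [1, 2, 4, 8, 16, 32, 64, 3, 9, 27, 5],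
          m ∣ n → m % 11 = n % 11 → m = n := by decide +kernel
      have hmem : ∀ s : ℕ, q ^ s ∣ 8640 → q ^ s ∈ [1, 2, 4, 8, 16, 32, 64, 3, 9, 27, 5] := by
        intro s hs
        rcases Nat.eq_zero_or_pos s with rfl | hs0
        · simp
        have hq' : q ∣ 8640 := (dvd_pow_self q hs0.ne').trans hs
        have hq5 : q = 2 ∨ q = 3 ∨ q = 5 := by
          have h1 : q ∣ 2 ^ 6 * 3 ^ 3 * 5 := by norm_num; exact hq'
          rcases (Nat.Prime.dvd_mul hq).1 h1 with h2 | h2
          · rcases (Nat.Prime.dvd_mul hq).1 h2 with h3 | h3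
            · exact Or.inl ((Nat.prime_dvd_prime_iff_eq hq Nat.prime_two).1 (hq.dvd_of_dvd_pow h3))
            · exact Or.inr (Or.inl ((Nat.prime_dvd_prime_iff_eq hq Nat.prime_three).1 (hq.dvd_of_dvd_pow h3)))
          · exact Or.inr (Or.inr ((Nat.prime_dvd_prime_iff_eq hq Nat.prime_five).1 h2))
        rcases hq5 with rfl | rfl | rfl
        · have : s ≤ 6 := by
            by_contra hs7
            have := (pow_dvd_pow 2 (by omega : 7 ≤ s)).trans hs
            norm_num at this
          interval_cases s <;> simp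
        · have : s ≤ 3 := by
            by_contra hs7
            have := (pow_dvd_pow 3 (by omega : 4 ≤ s)).trans hs
            norm_num at this
          interval_cases s <;> simp
        · have : s ≤ 1 := by
            by_contra hs7
            have := (pow_dvd_pow 5 (by omega : 2 ≤ s)).trans hs
            norm_num at this
          interval_cases s
          simp
      obtain ⟨s, hs, rfl⟩ := (Nat.dvd_prime_pow hq).1 hd
      exact key _ (hmem b h) _ (hmem s ((pow_dvd_pow q hs).trans h)) (pow_dvd_pow q hs) hmod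
    have hRC : R' ≤ centralizer (P : Set G) := by
      refine GraphSimple.le_centralizer_of_mod (p := 11)
        (IsPGroup.of_card (n := 1) (by rw [hP]; norm_num)) hR ?_
      rw [hb]
      exact hb6 hR'd
    refine dvd_trans ?_ (Subgroup.card_dvd_of_le (le_inf hRle hRC))
    rw [Subgroup.card_subtype, R.card_eq_multiplicity]
    exact pow_dvd_pow q ((Nat.Prime.pow_dvd_iff_le_factorization hq Nat.card_pos.ne').1 hqk)
  exact inf_eq_left.1 (Subgroup.eq_of_le_of_card_ge inf_le_left (Nat.le_of_dvd Nat.card_pos hall))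

/-- The order of a join with a normal subgroup divides the product of the orders. -/
theorem card_sup_dvd (A B : Subgroup G) [B.Normal] :
    Nat.card ↥(A ⊔ B) ∣ Nat.card A * Nat.card B := by
  have hmul : Nat.card (B.subgroupOf (A ⊔ B)) * (B.subgroupOf (A ⊔ B)).index = Nat.card ↥(A ⊔ B) := by
    rw [mul_comm]; exact (B.subgroupOf (A ⊔ B)).index_mul_card
  rw [Nat.card_congr (Subgroup.subgroupOfEquivOfLe le_sup_right).toEquiv] at hmul
  have hrel : (B.subgroupOf (A ⊔ B)).index = B.relIndex A := by
    rw [← Subgroup.relIndex_sup_right A B]; rfl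
  rw [← hmul, hrel, mul_comm]
  exact mul_dvd_mul_right (Subgroup.relIndex_dvd_card B A) _

/-- A minimal normal subgroup whose order has the prime `p` exactly once is simple. -/
theorem isSimple_of_minimal {p : ℕ} [Fact p.Prime] {M : Subgroup G} [hMn : M.Normal]
    (hmin : ∀ N : Subgroup G, N.Normal → N ≤ M → N = ⊥ ∨ N = M) (hp : p ∣ Nat.card M)
    (hp2 : ¬ p ^ 2 ∣ Nat.card G) : IsSimpleGroup M := by
  classical
  have hne : M ≠ ⊥ := fun h => by
    rw [h, Subgroup.card_bot, Nat.dvd_one] at hp
    exact (Fact.out : p.Prime).ne_one hp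
  haveI : Nontrivial M := (Subgroup.nontrivial_iff_ne_bot M).2 hne
  refine ⟨fun S hS => ?_⟩
  by_contra hcon
  push Not at hcon
  -- take such a subgroup of least order
  haveI : Nonempty {T : Subgroup M // T.Normal ∧ T ≠ ⊥ ∧ T ≠ ⊤} := ⟨⟨S, hS, hcon.1, hcon.2⟩⟩
  obtain ⟨T, hTmin⟩ := Finite.exists_min
    (fun T : {T : Subgroup M // T.Normal ∧ T ≠ ⊥ ∧ T ≠ ⊤} => Nat.card T.1)
  obtain ⟨hTn, hTb, hTt⟩ := T.2
  set T' : Subgroup G := T.1.map M.subtype
  have hT'M : T' ≤ M := Subgroup.map_subtype_le _
  -- conjugates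
  let c : G → Subgroup G := fun g => MulAut.conj g • T'
  have hcM : ∀ g, c g ≤ M := fun g => by
    refine le_trans (Subgroup.pointwise_smul_le_pointwise_smul_iff.2 hT'M) (le_of_eq ?_)
    exact Subgroup.Normal.conjAct hMn g
  have hcn : ∀ g, ∀ m ∈ M, ∀ t ∈ c g, m * t * m⁻¹ ∈ c g := by
    intro g m hm t ht
    rw [Subgroup.mem_pointwise_smul_iff_inv_smul_mem] at ht ⊢
    simp only [← map_inv, MulAut.smul_def, MulAut.conj_apply, inv_inv] at ht ⊢
    have hm' : g⁻¹ * m * g ∈ M := by simpa using hMn.conj_mem m hm g⁻¹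
    obtain ⟨t', ht', hte⟩ := ht
    have := hTn.conj_mem t' ht' ⟨_, hm'⟩
    refine ⟨_, this, ?_⟩
    push_cast [Subgroup.coe_subtype]
    rw [show (t' : G) = g⁻¹ * t * g from hte]
    group
  have hcard : ∀ g, Nat.card (c g) = Nat.card T.1 := fun g => by
    rw [← Subgroup.card_subtype M T.1]
    exact Nat.card_congr (Subgroup.equivSMul (MulAut.conj g) T').toEquiv.symm
  have hgen : (⨆ g, c g) = M := by
    refine (hmin _ ?_ (iSup_le hcM)).resolve_left fun h => hTb ?_
    · refine ⟨fun x hx h => ?_⟩
      have hle : (⨆ g, c g).map (MulAut.conj h).toMonoidHom ≤ ⨆ g, c g := by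
        rw [Subgroup.map_iSup]
        refine iSup_le fun g => le_trans (le_of_eq ?_) (le_iSup c (h * g))
        rw [show c (h * g) = MulAut.conj h • c g from by
          show MulAut.conj (h * g) • T' = MulAut.conj h • MulAut.conj g • T'
          rw [map_mul, mul_smul]]
        rfl
      exact hle ⟨x, hx, by simp⟩
    · have h1 : c 1 = ⊥ := le_bot_iff.1 (h ▸ le_iSup c 1)
      have h2 : T' = ⊥ := by simpa [c] using h1
      exact (Subgroup.map_eq_bot_iff_of_injective _ M.subtype_injective).1 h2
  -- `p` divides the order of `T`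
  have hpT : p ∣ Nat.card T.1 := by
    by_contra hnp
    haveI : Finite G := inferInstance
    haveI := Fintype.ofFinite G
    have hstep : ∀ s : Finset G, ((⨆ g ∈ s, c g : Subgroup G) ≤ M) ∧
        ((⨆ g ∈ s, c g).subgroupOf M).Normal ∧ ¬ p ∣ Nat.card ↥(⨆ g ∈ s, c g : Subgroup G) := by
      intro s
      induction s using Finset.induction with
      | empty => simp [(Fact.out : p.Prime).ne_one]
      | @insert a s has ih =>
        obtain ⟨h1, h2, h3⟩ := ih
        rw [Finset.iSup_insert]
        set B := ⨆ g ∈ s, c g with hB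
        haveI := h2
        haveI : ((c a).subgroupOf M).Normal := ⟨fun x hx m =>
          Subgroup.mem_subgroupOf.2 (hcn a m m.2 x (Subgroup.mem_subgroupOf.1 hx))⟩
        have he : (c a ⊔ B).subgroupOf M = (c a).subgroupOf M ⊔ B.subgroupOf M :=
          Subgroup.subgroupOf_sup (hcM a) h1
        refine ⟨sup_le (hcM a) h1, he ▸ inferInstance, ?_⟩
        rw [← Nat.card_congr (Subgroup.subgroupOfEquivOfLe (sup_le (hcM a) h1)).toEquiv, he]
        intro hd
        rcases (Nat.Prime.dvd_mul Fact.out).1 (hd.trans (card_sup_dvd _ _)) with hd' | hd'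
        · rw [Nat.card_congr (Subgroup.subgroupOfEquivOfLe (hcM a)).toEquiv, hcard] at hd'
          exact hnp hd'
        · rw [Nat.card_congr (Subgroup.subgroupOfEquivOfLe h1).toEquiv] at hd'
          exact h3 hd'
    have h := (hstep Finset.univ).2.2
    rw [show (⨆ g ∈ (Finset.univ : Finset G), c g) = M by simpa using hgen] at h
    exact h hp
  -- two different conjugates give a square of `p`
  obtain ⟨g, hg⟩ : ∃ g, c g ≠ T' := by
    by_contra h
    push Not at h
    rw [show (⨆ g, c g) = T' by simp [h]] at hgen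
    refine hTt (Subgroup.map_injective M.subtype_injective ?_)
    rw [show T.1.map M.subtype = M from hgen, ← MonoidHom.range_eq_map, Subgroup.range_subtype]
  have hint : c g ⊓ T' = ⊥ := by
    set J : Subgroup M := (c g ⊓ T').subgroupOf M
    haveI hJn : J.Normal := ⟨fun x hx m => by
      obtain ⟨hx1, hx2⟩ := Subgroup.mem_inf.1 (Subgroup.mem_subgroupOf.1 hx)
      refine Subgroup.mem_subgroupOf.2 (Subgroup.mem_inf.2 ⟨hcn g m m.2 x hx1, ?_⟩)
      have := hcn 1 m m.2 x (by simpa [c] using hx2)
      simpa [c] using this⟩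
    by_contra hJ
    have hJb : J ≠ ⊥ := fun h => hJ (le_bot_iff.1 fun x hx => by
      have hxM : x ∈ M := hT'M hx.2
      have h1 : (⟨x, hxM⟩ : M) ∈ J := Subgroup.mem_subgroupOf.2 hx
      rw [h, Subgroup.mem_bot] at h1
      exact Subgroup.mem_bot.2 (congrArg Subtype.val h1))
    have hJT : J ≤ T.1 := fun x hx => by
      obtain ⟨t, ht, hte⟩ := (Subgroup.mem_inf.1 (Subgroup.mem_subgroupOf.1 hx)).2
      rwa [← M.subtype_injective hte]
    have hJt : J ≠ ⊤ := fun h => hTt (top_le_iff.1 (h.ge.trans hJT))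
    have hle := hTmin ⟨J, hJn, hJb, hJt⟩
    have heq : J = T.1 := Subgroup.eq_of_le_of_card_ge hJT hle
    have h1 : T' ≤ c g := fun x hx => by
      obtain ⟨t, ht, rfl⟩ := hx
      exact (Subgroup.mem_inf.1 (Subgroup.mem_subgroupOf.1 (heq ▸ ht : t ∈ J))).1
    exact hg (Subgroup.eq_of_le_of_card_ge h1
      (by rw [hcard g, ← Subgroup.card_subtype M T.1])).symm
  have hinj : Function.Injective fun x : c g × T' => (x.1 : G) * x.2 :=
    Subgroup.mul_injective_of_disjoint (disjoint_iff.2 hint)
  refine hp2 ?_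
  have hsup : Nat.card (c g) * Nat.card T' ∣ Nat.card ↥(c g ⊔ T') := by
    have hcomm : ∀ a ∈ c g, ∀ b ∈ T', a * b = b * a := by
      intro a ha b hb
      have hbM := hT'M hb
      have h1 : a * b * a⁻¹ * b⁻¹ ∈ c g := by
        have := mul_mem ha (hcn g b hbM a⁻¹ (inv_mem ha))
        simpa [mul_assoc] using this
      have h2 : a * b * a⁻¹ * b⁻¹ ∈ T' := by
        have h3 : a * b * a⁻¹ ∈ T' := by simpa [c] using hcn 1 a (hcM g ha) b (by simpa [c] using hb)
        exact mul_mem h3 (inv_mem hb)
      have h4 : a * b * a⁻¹ * b⁻¹ ∈ c g ⊓ T' := ⟨h1, h2⟩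
      rw [hint, Subgroup.mem_bot, mul_inv_eq_one, mul_inv_eq_iff_eq_mul] at h4
      exact h4
    let φ : c g × T' →* ↥(c g ⊔ T') := MonoidHom.mk' (fun x =>
      ⟨(x.1 : G) * x.2, mul_mem (Subgroup.mem_sup_left x.1.2) (Subgroup.mem_sup_right x.2.2)⟩)
      (fun x y => Subtype.ext (by
        show ((x.1 * y.1 : c g) : G) * ((x.2 * y.2 : T') : G) = (x.1 : G) * x.2 * ((y.1 : G) * y.2)
        push_cast
        calc (x.1 : G) * y.1 * ((x.2 : G) * y.2) = (x.1 : G) * ((y.1 : G) * x.2) * y.2 := by group
          _ = (x.1 : G) * ((x.2 : G) * y.1) * y.2 := by rw [hcomm _ y.1.2 _ x.2.2]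
          _ = _ := by group))
    have hφ : Function.Injective φ := fun a b h => hinj (congrArg Subtype.val h)
    have := Subgroup.card_dvd_of_injective φ hφ
    rwa [Nat.card_prod] at this
  refine Dvd.dvd.trans ?_ (hsup.trans (Subgroup.card_subgroup_dvd_card _))
  rw [pow_two]
  exact mul_dvd_mul (hcard g ▸ hpT) (by rw [Subgroup.card_subtype]; exact hpT)

/-- A Sylow subgroup of prime order lies in every normal subgroup of order divisible by the prime. -/
theorem le_normal_of_dvd (hG : Nat.card G = 95040) [Fact (Nat.Prime 11)] {P : Subgroup G}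
    (hP : Nat.card P = 11) {K : Subgroup G} [K.Normal] (hK : 11 ∣ Nat.card K) : P ≤ K := by
  intro x hx
  have h1 : orderOf (QuotientGroup.mk' K x) ∣ 11 :=
    (orderOf_map_dvd _ x).trans (hP ▸ Subgroup.orderOf_dvd_natCard _ hx)
  have h2 : orderOf (QuotientGroup.mk' K x) ∣ K.index := orderOf_dvd_natCard _
  have h3 : ¬ 11 ∣ K.index := fun h => by
    have := mul_dvd_mul hK h
    rw [K.card_mul_index, hG] at this
    norm_num at this
  rcases (Nat.dvd_prime (by norm_num)).1 h1 with h | h
  · exact (QuotientGroup.eq_one_iff x).1 (orderOf_eq_one_iff.1 h)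
  · exact absurd (h ▸ h2) h3

/-- The Mathieu group of degree eleven has no proper stem extension. -/
theorem injective_of_stem {E : Type u} [Group E] [Finite E] (σ : E →* ↥Spor.M11)
    (hσ : Cfsg.IsStemExtension σ) : Function.Injective σ := by
  obtain ⟨hsur, hcen, hcomm⟩ := hσ
  let e : Shrink.{0} E ≃* E := Shrink.mulEquiv
  haveI : Finite (Shrink.{0} E) := Finite.of_equiv E e.symm.toEquiv
  set τ : Shrink.{0} E →* ↥Spor.M11 := σ.comp e.toMonoidHom
  have hτ : Cfsg.IsStemExtension τ := by
    refine ⟨hsur.comp e.surjective, fun x hx => ?_, fun x hx => ?_⟩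
    · rw [Subgroup.mem_center_iff]
      intro y
      refine e.injective ?_
      rw [map_mul, map_mul]
      exact Subgroup.mem_center_iff.1 (hcen hx) (e y)
    · have h1 : e x ∈ commutator E := hcomm hx
      rw [_root_.commutator_def, ← Subgroup.map_top_of_surjective e.toMonoidHom e.surjective,
        ← Subgroup.map_commutator] at h1
      obtain ⟨y, hy, hye⟩ := h1
      rwa [← e.injective hye]
  obtain ⟨π, hπ⟩ := Cfsg.Agent.S2034.result.2 (Shrink.{0} E) τ hτ
  have hker : τ.ker = ⊥ := by
    haveI : Subsingleton τ.ker := hπ.subsingleton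
    exact Subgroup.eq_bot_of_subsingleton _
  intro a b hab
  refine e.symm.injective ((MonoidHom.ker_eq_bot_iff τ).1 hker ?_)
  simp [τ, hab]

/-- Automorphisms of a copy of the Mathieu group of degree eleven are inner. -/
theorem exists_inner_of_M11 {E : Type u} [Group E] (e : E ≃* ↥Spor.M11) (φ : MulAut E) :
    ∃ a : E, ∀ x, φ x = a * x * a⁻¹ := by
  haveI : Subsingleton (Cfsg.Out ↥Spor.M11) :=
    (Nat.card_eq_one_iff_unique.1 Cfsg.Agent.S2060.result).1
  have h := (QuotientGroup.eq_one_iff (N := Cfsg.Inn ↥Spor.M11)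
    ((e.symm.trans φ).trans e : MulAut ↥Spor.M11)).1 (Subsingleton.elim _ _)
  obtain ⟨b, hb⟩ := h
  refine ⟨e.symm b, fun x => e.injective ?_⟩
  have := DFunLike.congr_fun hb (e x)
  simp only [MulAut.conj_apply, MulEquiv.trans_apply, MulEquiv.symm_apply_apply] at this
  rw [map_mul, map_mul, map_inv, MulEquiv.apply_symm_apply, this]

/-- A normal eleventh degree divisor forces a non-abelian chief factor. -/
theorem no_abelian (hG : Nat.card G = 95040) [Fact (Nat.Prime 11)] (Ps : Sylow 11 G)
    (hP : Nat.card (Ps : Subgroup G) = 11) {χ : G → ℂ} (hχ : Cfsg.IsIrrCharacter G χ) {d : ℕ}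
    (hd : χ 1 = d) (h11 : 11 ∣ d) {L K : Subgroup G} (hL : L.Normal) [K.Normal] (hLK : L ≤ K)
    (hL11 : ¬ 11 ∣ Nat.card L) (hK : Nat.card K = 11 * Nat.card L) : False := by
  have hPK : (Ps : Subgroup G) ≤ K := le_normal_of_dvd hG hP (hK ▸ dvd_mul_right _ _)
  have hPL := le_centralizer_of_not_dvd hG Ps hP hL hL11
  have heq : L ⊔ (Ps : Subgroup G) = K := by
    refine Subgroup.eq_of_le_of_card_ge (sup_le hLK hPK) (Nat.le_of_dvd Nat.card_pos ?_)
    rw [hK]
    refine Nat.Coprime.mul_dvd_of_dvd_of_dvd ((Nat.Prime.coprime_iff_not_dvd (by norm_num)).2 hL11)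
      (dvd_trans hP.symm.dvd (Subgroup.card_dvd_of_le le_sup_right)) (Subgroup.card_dvd_of_le le_sup_left)
  have hKP : K ≤ centralizer ((Ps : Subgroup G) : Set G) := by
    rw [← heq]
    refine sup_le hPL ?_
    haveI : IsCyclic (Ps : Subgroup G) := isCyclic_of_prime_card hP
    letI := IsCyclic.commGroup (α := (Ps : Subgroup G))
    intro x hx
    rw [Subgroup.mem_centralizer_iff]
    intro y hy
    exact congrArg Subtype.val (mul_comm (⟨y, hy⟩ : (Ps : Subgroup G)) ⟨x, hx⟩)
  set A := K ⊓ centralizer (K : Set G)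
  haveI : A.Normal := Subgroup.normal_inf_normal _ _
  have hPA : (Ps : Subgroup G) ≤ A := by
    refine le_inf hPK fun x hx => Subgroup.mem_centralizer_iff.2 fun y hy => ?_
    exact (Subgroup.mem_centralizer_iff.1 (hKP hy) x hx).symm
  obtain ⟨d', hd', hdvd⟩ := CfsgLib.GaloisAverage.exists_degree_dvd_index hχ A
    (fun a ha b hb => Subgroup.mem_centralizer_iff.1 hb.2 a ha.1)
  rw [hd, Nat.cast_inj] at hd'
  have := mul_dvd_mul (hP ▸ Subgroup.card_dvd_of_le hPA) ((hd' ▸ h11).trans hdvd)
  rw [A.card_mul_index, hG] at this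
  norm_num at this

/-- Groups of order 95040 with degrees divisible by 55 and by 33. -/
theorem structure_of_degrees (hG : Nat.card G = 95040)
    {χ : G → ℂ} (hχ : Cfsg.IsIrrCharacter G χ) {a : ℕ} (ha : χ 1 = a) (h55 : 55 ∣ a)
    {ψ : G → ℂ} (hψ : Cfsg.IsIrrCharacter G ψ) {b : ℕ} (hb : ψ 1 = b) (h33 : 33 ∣ b) :
    Nonempty (G ≃* ↥Spor.M12) ∨ Nonempty (G ≃* alternatingGroup (Fin 4) × ↥Spor.M11) := by
  classical
  haveI h11p : Fact (Nat.Prime 11) := ⟨by norm_num⟩
  haveI := Fact.mk Nat.prime_three
  haveI := Fintype.ofFinite G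
  have Ps : Sylow 11 G := Classical.arbitrary _
  have hP : Nat.card (Ps : Subgroup G) = 11 :=
    (CfsgLib.Small.card_sylow_eq (k := 1) (m := 8640) (by rw [hG]; norm_num) (by norm_num) Ps).trans
      (pow_one _)
  -- the largest normal subgroup of order prime to eleven
  haveI : Nonempty {N : Subgroup G // N.Normal ∧ ¬ 11 ∣ Nat.card N} :=
    ⟨⟨⊥, inferInstance, by simp⟩⟩
  obtain ⟨⟨L, hLn, hL11⟩, hLmax⟩ := Finite.exists_max
    (fun N : {N : Subgroup G // N.Normal ∧ ¬ 11 ∣ Nat.card N} => Nat.card N.1)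
  haveI := hLn
  set Q := G ⧸ L
  have hQL : Nat.card Q * Nat.card L = 95040 := by
    rw [← hG]; exact (Subgroup.card_eq_card_quotient_mul_card_subgroup L).symm
  have hQ11 : 11 ∣ Nat.card Q :=
    ((Nat.Prime.dvd_mul h11p.out).1 (hQL ▸ by norm_num : 11 ∣ Nat.card Q * Nat.card L)).resolve_right hL11
  haveI : Nontrivial Q := Finite.one_lt_card_iff_nontrivial.1
    (lt_of_lt_of_le (by norm_num) (Nat.le_of_dvd Nat.card_pos hQ11))
  haveI : Nonempty {N : Subgroup Q // N.Normal ∧ N ≠ ⊥} := ⟨⟨⊤, inferInstance, top_ne_bot⟩⟩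
  obtain ⟨⟨M, hMn, hMb⟩, hMmin⟩ := Finite.exists_min
    (fun N : {N : Subgroup Q // N.Normal ∧ N ≠ ⊥} => Nat.card N.1)
  haveI := hMn
  set mk := QuotientGroup.mk' L
  set K := M.comap mk with hKdef
  haveI hKn : K.Normal := Subgroup.Normal.comap hMn mk
  have hLK : L ≤ K := fun x hx => by
    show mk x ∈ M
    rw [show mk x = 1 from (QuotientGroup.eq_one_iff x).2 hx]
    exact one_mem M
  have hKcard : Nat.card K = Nat.card M * Nat.card L := by
    have h1 := K.card_mul_index
    rw [Subgroup.index_comap_of_surjective M (QuotientGroup.mk'_surjective L), hG, ← hQL,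
      ← M.card_mul_index, mul_right_comm] at h1
    exact Nat.eq_of_mul_eq_mul_right (Nat.pos_of_ne_zero M.index_ne_zero_of_finite) h1
  have hM11 : 11 ∣ Nat.card M := by
    by_contra h
    have hK11 : ¬ 11 ∣ Nat.card K := fun hd => by
      rcases (Nat.Prime.dvd_mul h11p.out).1 (hKcard ▸ hd) with h' | h'
      · exact h h'
      · exact hL11 h'
    have := hLmax ⟨K, hKn, hK11⟩
    have hlt : 1 < Nat.card M :=
      Finite.one_lt_card_iff_nontrivial.2 ((Subgroup.nontrivial_iff_ne_bot M).2 hMb)
    simp only [hKcard] at this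
    nlinarith [Nat.card_pos (α := L)]
  have hQ121 : ¬ 11 ^ 2 ∣ Nat.card Q := fun h => by
    have := dvd_mul_of_dvd_left h (Nat.card L)
    rw [hQL] at this
    norm_num at this
  haveI hMs : IsSimpleGroup M := isSimple_of_minimal (fun N hN hle => by
    rcases eq_or_ne N ⊥ with h | h
    · exact Or.inl h
    · exact Or.inr (Subgroup.eq_of_le_of_card_ge hle (hMmin ⟨N, hN, h⟩))) hM11 hQ121
  have hna : ¬ IsMulCommutative M := by
    intro hc
    letI : CommGroup M := { (inferInstance : Group M) with mul_comm := hc.is_comm.comm }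
    have hp : (Nat.card M).Prime := IsSimpleGroup.prime_card
    have h : Nat.card M = 11 := ((Nat.prime_dvd_prime_iff_eq h11p.out hp).1 hM11).symm
    exact no_abelian hG Ps hP hχ ha ((by norm_num : 11 ∣ 55).trans h55) hLn hLK hL11
      (by rw [hKcard, h])
  have hMdiv : Nat.card M ∣ 95040 :=
    (Subgroup.card_subgroup_dvd_card M).trans (hQL ▸ dvd_mul_right _ _)
  have hMcases := simple_orders hna hM11 hMdiv
  by_cases h95 : Nat.card M = 95040
  · left
    have hQle : Nat.card M ≤ Nat.card Q := Nat.le_of_dvd Nat.card_pos (Subgroup.card_subgroup_dvd_card M)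
    have hL1 : Nat.card L = 1 := by
      have := Nat.card_pos (α := L)
      nlinarith
    have hLbot : L = ⊥ := Subgroup.card_eq_one.1 hL1
    have hMtop : M = ⊤ := Subgroup.eq_top_of_card_eq M (by rw [h95, ← hQL, hL1, mul_one])
    let eM : M ≃* G := (((MulEquiv.subgroupCongr hMtop).trans Subgroup.topEquiv).trans
      (QuotientGroup.quotientMulEquivOfEq hLbot)).trans QuotientGroup.quotientBot
    obtain ⟨f⟩ := CfsgLib.MTwelveUnique.nonempty_mulEquiv_SporM12 (G := M) h95
    exact ⟨eM.symm.trans f⟩
  right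
  -- the normal closure of a Sylow subgroup
  set E := Subgroup.normalClosure ((Ps : Subgroup G) : Set G)
  haveI : E.Normal := Subgroup.normalClosure_normal
  have hPK : (Ps : Subgroup G) ≤ K :=
    le_normal_of_dvd hG hP (hKcard ▸ dvd_mul_of_dvd_left hM11 _)
  have hEK : E ≤ K := Subgroup.normalClosure_le_normal hPK
  have hEL : E ≤ centralizer (L : Set G) := Subgroup.normalClosure_le_normal fun x hx =>
    Subgroup.mem_centralizer_iff.2 fun y hy =>
      (Subgroup.mem_centralizer_iff.1 (le_centralizer_of_not_dvd hG Ps hP hLn hL11 hy) x hx).symm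
  have hbig : ∀ N : Subgroup G, N.Normal → N ≤ K → 11 ∣ Nat.card N → N.map mk = M := by
    intro N hN hNK hN11
    have hle : N.map mk ≤ M := Subgroup.map_le_iff_le_comap.2 hNK
    haveI : (N.map mk).Normal := Subgroup.Normal.map hN mk (QuotientGroup.mk'_surjective L)
    refine Subgroup.eq_of_le_of_card_ge hle (hMmin ⟨N.map mk, inferInstance, fun h => ?_⟩)
    have : N ≤ L := fun x hx => (QuotientGroup.eq_one_iff x).1
      (Subgroup.mem_bot.1 (h ▸ Subgroup.mem_map_of_mem mk hx : mk x ∈ (⊥ : Subgroup Q)))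
    exact hL11 (hN11.trans (Subgroup.card_dvd_of_le this))
  have hE11 : 11 ∣ Nat.card E := hP ▸ Subgroup.card_dvd_of_le Subgroup.le_normalClosure
  have hEM : E.map mk = M := hbig E inferInstance hEK hE11
  set σ : E →* M := (mk.comp E.subtype).codRestrict M fun x => hEK x.2
  have hσ : Function.Surjective σ := by
    rintro ⟨y, hy⟩
    rw [← hEM] at hy
    obtain ⟨x, hx, rfl⟩ := hy
    exact ⟨⟨x, hx⟩, rfl⟩
  have hker : σ.ker ≤ Subgroup.center E := by
    intro x hx
    have hxL : (x : G) ∈ L := (QuotientGroup.eq_one_iff (x : G)).1 (congrArg Subtype.val hx)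
    rw [Subgroup.mem_center_iff]
    intro y
    exact Subtype.ext (Subgroup.mem_centralizer_iff.1 (hEL y.2) x hxL).symm
  have hEcard : Nat.card E = Nat.card M * Nat.card σ.ker := by
    rw [← σ.ker.index_mul_card, Subgroup.index_ker, MonoidHom.range_eq_top.2 hσ, Subgroup.card_top]
  have hEindex : ∀ n : ℕ, Nat.card M * n = 95040 → E.index ∣ n := by
    intro n hn
    have h1 := E.card_mul_index
    rw [hEcard, hG, ← hn, mul_assoc] at h1
    exact ⟨Nat.card σ.ker, ((Nat.eq_of_mul_eq_mul_left Nat.card_pos h1).symm).trans (mul_comm _ _)⟩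
  haveI := Fintype.ofFinite E
  rcases hMcases with h660 | h7920 | h
  · exfalso
    obtain ⟨θ, hθ, hcon⟩ := DegreeGraph.exists_under E hχ
    obtain ⟨c, k, hc, hak, hk, hc0⟩ := DegreeGraph.exists_ratio E hχ hθ hcon ha
    have hk144 : k ∣ 144 := hk.trans (hEindex 144 (by rw [h660]))
    have h55c : 55 ∣ c := by
      refine (Nat.Coprime.dvd_of_dvd_mul_right ?_ (hak ▸ h55))
      exact Nat.Coprime.coprime_dvd_right hk144 (by norm_num)
    have hsq := sq_le_center_index hθ hc
    rw [hEcard, h660] at hsq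
    have hkz : Nat.card σ.ker ≤ Nat.card (Subgroup.center E) :=
      Nat.le_of_dvd Nat.card_pos (Subgroup.card_dvd_of_le hker)
    have h55le : 55 ≤ c := Nat.le_of_dvd hc0 h55c
    have hz := Nat.card_pos (α := Subgroup.center E)
    have h2 : 55 ^ 2 * Nat.card (Subgroup.center E) ≤ 660 * Nat.card (Subgroup.center E) :=
      le_trans (Nat.mul_le_mul_right _ (Nat.pow_le_pow_left h55le 2))
        (hsq.trans (Nat.mul_le_mul_left _ hkz))
    omega
  swap
  · exact absurd h h95
  obtain ⟨eM⟩ := CfsgLib.MElevenUnique.nonempty_mulEquiv_SporM11 hMs h7920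
  -- the closure is perfect
  have hperf : commutator E = ⊤ := by
    set D := (commutator E).map E.subtype
    haveI : D.Normal := inferInstance
    have hDE : D ≤ E := Subgroup.map_subtype_le _
    have hDM : (commutator E).map σ = ⊤ := by
      rw [_root_.commutator_def, Subgroup.map_commutator, Subgroup.map_top_of_surjective σ hσ]
      refine (IsSimpleGroup.eq_bot_or_eq_top_of_normal _ inferInstance).resolve_left fun h => hna ?_
      refine ⟨⟨fun x y => ?_⟩⟩
      have := Subgroup.commutator_mem_commutator (Subgroup.mem_top x) (Subgroup.mem_top y)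
      rw [h, Subgroup.mem_bot, commutatorElement_eq_one_iff_mul_comm] at this
      exact this
    have hD11 : 11 ∣ Nat.card D := by
      rw [Subgroup.card_subtype]
      refine dvd_trans ?_ (Subgroup.card_map_dvd σ (H := commutator E))
      rw [hDM, Subgroup.card_top]
      exact hM11
    have hED : E ≤ D := Subgroup.normalClosure_le_normal (le_normal_of_dvd hG hP hD11)
    refine Subgroup.map_injective E.subtype_injective ?_
    rw [← MonoidHom.range_eq_map, Subgroup.range_subtype]
    exact le_antisymm hDE hED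
  have hinj : Function.Injective σ := by
    have := injective_of_stem (eM.toMonoidHom.comp σ) ⟨eM.surjective.comp hσ,
      fun x hx => hker (eM.injective (hx.trans (map_one eM).symm)),
      hperf ▸ le_top⟩
    exact Function.Injective.of_comp this
  let eE : E ≃* ↥Spor.M11 := (MulEquiv.ofBijective σ ⟨hinj, hσ⟩).trans eM
  have hE : Nat.card E = 7920 := by
    rw [Nat.card_congr (MulEquiv.ofBijective σ ⟨hinj, hσ⟩).toEquiv, h7920]
  haveI hEs : IsSimpleGroup E := (MulEquiv.ofBijective σ ⟨hinj, hσ⟩).isSimpleGroup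
  -- the centraliser of the closure
  set C := centralizer (E : Set G)
  haveI : C.Normal := inferInstance
  have hCE : C ⊓ E = ⊥ := by
    rw [eq_bot_iff]
    intro x hx
    have hxc : (⟨x, hx.2⟩ : E) ∈ Subgroup.center E := Subgroup.mem_center_iff.2 fun y =>
      Subtype.ext (Subgroup.mem_centralizer_iff.1 hx.1 y y.2)
    rcases IsSimpleGroup.eq_bot_or_eq_top_of_normal (Subgroup.center E) inferInstance with h | h
    · rw [h, Subgroup.mem_bot] at hxc
      exact Subgroup.mem_bot.2 (congrArg Subtype.val hxc)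
    · exfalso
      refine hna ⟨⟨fun p q => ?_⟩⟩
      obtain ⟨u, rfl⟩ := hσ p
      obtain ⟨v, rfl⟩ := hσ q
      rw [← map_mul, ← map_mul, (Subgroup.mem_center_iff.1 (h.symm ▸ Subgroup.mem_top v) u)]
  let φ : C × E →* G := MonoidHom.mk' (fun x => (x.1 : G) * x.2) (fun x y => by
    show ((x.1 * y.1 : C) : G) * ((x.2 * y.2 : E) : G) = (x.1 : G) * x.2 * ((y.1 : G) * y.2)
    push_cast
    have := Subgroup.mem_centralizer_iff.1 y.1.2 x.2 x.2.2
    calc (x.1 : G) * y.1 * ((x.2 : G) * y.2) = (x.1 : G) * ((y.1 : G) * x.2) * y.2 := by group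
      _ = (x.1 : G) * ((x.2 : G) * y.1) * y.2 := by rw [this]
      _ = _ := by group)
  have hφi : Function.Injective φ := fun x y h =>
    Subgroup.mul_injective_of_disjoint (disjoint_iff.2 hCE) h
  have hφs : Function.Surjective φ := by
    intro g
    obtain ⟨e, he⟩ := exists_inner_of_M11 eE (MulAut.conjNormal g)
    have hc : g * (e : G)⁻¹ ∈ C := by
      rw [Subgroup.mem_centralizer_iff]
      intro y hy
      have h1 : g⁻¹ * y * g ∈ E := by simpa using (inferInstance : E.Normal).conj_mem y hy g⁻¹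
      have h2 := congrArg Subtype.val (he ⟨_, h1⟩)
      simp only [MulAut.conjNormal_apply, Subgroup.coe_mul, Subgroup.coe_inv] at h2
      have h3 : y = (e : G) * (g⁻¹ * y * g) * (e : G)⁻¹ := by
        rw [← h2]; group
      refine Eq.trans ?_ (congrArg (fun t => g * (e : G)⁻¹ * t) h3.symm)
      group
    exact ⟨(⟨_, hc⟩, e), by simp [φ]⟩
  let eG : C × E ≃* G := MulEquiv.ofBijective φ ⟨hφi, hφs⟩
  have hC : Nat.card C = 12 := by
    have := Nat.card_congr eG.toEquiv
    rw [Nat.card_prod, hE, hG] at this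
    omega
  -- the Sylow three-subgroup of the centraliser is not normal
  have T : Sylow 3 C := Classical.arbitrary _
  have hT : Nat.card (T : Subgroup C) = 3 :=
    (CfsgLib.Small.card_sylow_eq (k := 1) (m := 4) (by rw [hC]; norm_num) (by norm_num) T).trans
      (pow_one _)
  have hTn : ¬ (T : Subgroup C).Normal := by
    intro hTn
    haveI : (T : Subgroup C).Characteristic := T.characteristic_of_normal hTn
    set T' := (T : Subgroup C).map C.subtype
    haveI : T'.Normal := inferInstance
    have hT' : Nat.card T' = 3 := (Subgroup.card_subtype C _).trans hT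
    set B := T' ⊔ E
    haveI : B.Normal := Subgroup.sup_normal _ _
    have hT'C : T' ≤ C := Subgroup.map_subtype_le _
    have hdis : Disjoint T' E := (disjoint_iff.2 hCE).mono_left hT'C
    haveI := Fintype.ofFinite B
    obtain ⟨θ, hθ, hcon⟩ := DegreeGraph.exists_under B hψ
    obtain ⟨c, k, hc, hbk, hk, hc0⟩ := DegreeGraph.exists_ratio B hψ hθ hcon hb
    set T'' := T'.subgroupOf B
    set E'' := E.subgroupOf B
    have hcT : Nat.card T'' = 3 := by
      rw [Nat.card_congr (Subgroup.subgroupOfEquivOfLe le_sup_left).toEquiv, hT']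
    have hcE : Nat.card E'' = 7920 := by
      rw [Nat.card_congr (Subgroup.subgroupOfEquivOfLe le_sup_right).toEquiv, hE]
    have hdis' : Disjoint E'' T'' := by
      rw [disjoint_iff, eq_bot_iff]
      rintro x ⟨hx1, hx2⟩
      exact Subgroup.mem_bot.2 (Subtype.ext (Subgroup.disjoint_def.1 hdis
        (Subgroup.mem_subgroupOf.1 hx2) (Subgroup.mem_subgroupOf.1 hx1)))
    have hBcard : Nat.card B = 23760 := by
      apply Nat.dvd_antisymm
      · exact (card_sup_dvd T' E).trans (by rw [hT', hE])
      · have := Subgroup.card_dvd_of_injective (MonoidHom.mk' (fun x : T'' × E'' => (x.1 : B) * x.2)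
          fun x y => by
            show ((x.1 * y.1 : T'') : B) * ((x.2 * y.2 : E'') : B) = _
            push_cast
            have h : (y.1 : B) * x.2 = x.2 * y.1 := Subtype.ext
              (Subgroup.mem_centralizer_iff.1 (hT'C (Subgroup.mem_subgroupOf.1 y.1.2)) _
                (Subgroup.mem_subgroupOf.1 x.2.2)).symm
            simp only [mul_assoc]
            rw [← mul_assoc (y.1 : B), h, mul_assoc])
          (Subgroup.mul_injective_of_disjoint hdis'.symm)
        rwa [Nat.card_prod, hcT, hcE] at this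
    have hBi : B.index = 4 := by
      have h1 := B.card_mul_index
      rw [hBcard, hG] at h1
      omega
    have h33c : 33 ∣ c := by
      refine Nat.Coprime.dvd_of_dvd_mul_right ?_ (hbk ▸ h33)
      exact Nat.Coprime.coprime_dvd_right (hBi ▸ hk) (by norm_num)
    haveI : IsCyclic T' := isCyclic_of_prime_card hT'
    letI := IsCyclic.commGroup (α := T')
    have hcen : T'' ≤ Subgroup.center B := by
      intro x hx
      rw [Subgroup.mem_center_iff]
      intro y
      refine Subtype.ext ?_
      show (y : G) * x = x * y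
      have hxT : (x : G) ∈ T' := Subgroup.mem_subgroupOf.1 hx
      have hle : B ≤ centralizer ({(x : G)} : Set G) := by
        refine sup_le (fun z hz => ?_) fun z hz => ?_
        · rw [Subgroup.mem_centralizer_singleton_iff]
          exact congrArg Subtype.val (mul_comm (⟨z, hz⟩ : T') ⟨_, hxT⟩)
        · rw [Subgroup.mem_centralizer_singleton_iff]
          exact Subgroup.mem_centralizer_iff.1 (hT'C hxT) z hz
      exact Subgroup.mem_centralizer_singleton_iff.1 (hle y.2)
    have hcompl : E''.IsComplement' T'' :=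
      Subgroup.isComplement'_of_card_mul_and_disjoint (by rw [hcE, hcT, hBcard]) hdis'
    haveI : IsSimpleGroup E'' := (Subgroup.subgroupOfEquivOfLe le_sup_right).isSimpleGroup
    exact not_dvd_degree hcE ⟨_, restrict_irr_of_central hθ hcen hcompl⟩ (d := c) (by simpa using hc)
      h33c
  have hN : Nat.card (Subgroup.normalizer ((T : Subgroup C) : Set C)) = 3 := by
    have hmod := card_sylow_modEq_one 3 C
    have hdvd : Nat.card (Sylow 3 C) ∣ 4 := by
      have := T.card_dvd_index
      have h := (T : Subgroup C).card_mul_index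
      rw [hT, hC] at h
      rwa [show (T : Subgroup C).index = 4 by omega] at this
    have h1 : Nat.card (Sylow 3 C) ≠ 1 := fun h => hTn (by
      haveI := (Nat.card_eq_one_iff_unique.1 h).1
      exact Sylow.normal_of_subsingleton T)
    have hN := (Subgroup.normalizer ((T : Subgroup C) : Set C)).card_mul_index
    rw [hC, show (Subgroup.normalizer ((T : Subgroup C) : Set C)).index = Nat.card (Sylow 3 C) from T.card_eq_index_normalizer.symm] at hN
    have hle := Nat.le_of_dvd (by norm_num) hdvd
    have hpos := Nat.card_pos (α := Sylow 3 C)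
    interval_cases Nat.card (Sylow 3 C)
    all_goals simp [Nat.ModEq] at hmod h1 hdvd
    all_goals omega
  obtain ⟨eC⟩ := CfsgLib.DicksonPSL2.nonempty_equiv_alt_four hC (T : Subgroup C) hT hN
  exact ⟨eG.symm.trans (eC.prodCongr eE)⟩

end CfsgLib.MTwelveGraph
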